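import Cfsg.Agent.Lib.JankoFour.Seven.Assemble
import Cfsg.Agent.Lib.JankoFour.OneThreeType

/-!
# The local structure at a subgroup of order seven, from the hypothesis of Janko-four type
-/

set_option autoImplicit false
set_option linter.unusedSectionVars false

namespace CfsgLib.JankoFour.Seven

open Subgroup Cfsg

variable {G : Type*} [Group G] [Finite G]

/-- The statement, given the facts about the automizer. -/
theorem seven_of_facts [IsSimpleGroup G] {z : G} {P : Subgroup G} (h : IsOfJankoFourTypeWith z P)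
    (hfacts : ∀ {V : Type} [AddCommGroup V] [Module (ZMod 2) V] [Finite V]
      [DistribMulAction ((centralizer ({z} : Set G)) ⧸ core2 z) V] {q : QuadraticForm (ZMod 2) V}
      {n : (centralizer ({z} : Set G)) ⧸ core2 z} {M : Subgroup ((centralizer ({z} : Set G)) ⧸ core2 z)}
      {φ : ↥M →* ↥Cfsg.Spor.M22}, Core q n M φ → Facts q n M)
    {S : Subgroup G} (hS : Nat.card S = 7) (hSz : S ≤ centralizer ({z} : Set G)) :
    ¬ (49 ∣ Nat.card G) ∧
    (∃ I : Subgroup G, Cfsg.IsInternalDirectProduct S I (centralizer (S : Set G)) ∧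
      Nonempty (↥I ≃* Equiv.Perm (Fin 5))) ∧
    Nat.card ↥(normalizer (S : Set G)) = 3 * Nat.card ↥(centralizer (S : Set G)) ∧
    Nat.card ↥(normalizer (S : Set G)) = 2 ^ 3 * 3 ^ 2 * 5 * 7 := by
  have hone := one_class_three_of_facts h hfacts
  obtain ⟨ι, hι, q, inst, π, n, M, φ, m, -, p, hpP, hpn⟩ := exists_model_of_facts h hfacts
  obtain ⟨-, -, -, -, -, hc, -, -, -⟩ := h
  have hp3 : p ^ 3 = 1 := by
    refine Subtype.ext ?_
    have h := pow_card_eq_one' (x := (⟨(p : G), hpP⟩ : ↥P))
    rw [hc] at h
    exact (congrArg Subtype.val h : _)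
  have hord : orderOf (p : G) = 3 := by
    haveI := Fact.mk Nat.prime_three
    refine orderOf_eq_prime (congrArg Subtype.val hp3) fun e => ?_
    have h := m.core.ordn
    rw [← hpn, show p = 1 from Subtype.ext e, QuotientGroup.mk_one, orderOf_one] at h
    omega
  obtain ⟨s, A, Ab, T₀, c, -⟩ := Thompson.exists_ctx m
  exact seven_structure m hord (c.centralizer_three_le hpn (by rw [← hp3, pow_succ, pow_two])) hone hS hSz

end CfsgLib.JankoFour.Seven
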