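import Cfsg.Agent.Lib.MTwentyFourUnique.Concrete

/-!
# An element of order seven of the Mathieu group on 24 points with its centraliser
-/

set_option autoImplicit false
set_option linter.unusedSectionVars false

noncomputable section

namespace CfsgLib.JankoFour.Seven

open Subgroup Cfsg CfsgLib.Golay CfsgLib.M24Cert CfsgLib.MTwentyFourUnique CfsgLib.MTwentyTwoUnique

/-- The permutations. -/
structure SevenPerm (σ τ y : Equiv.Perm GolayPt) (a b c : GolayPt) : Prop where
  σ_mem : σ ∈ Cfsg.M24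
  τ_mem : τ ∈ Cfsg.M24
  y_mem : y ∈ Cfsg.M24
  σ_ord : orderOf σ = 7
  y_ord : orderOf y = 3
  τσ : τ * σ = σ * τ
  yσ : y * σ = σ * y
  hab : a ≠ b
  hac : a ≠ c
  hbc : b ≠ c
  fix_iff : ∀ p, σ p = p ↔ p = a ∨ p = b ∨ p = c
  τa : τ a = b
  τb : τ b = a
  τc : τ c = c
  ya : y a = b
  yb : y b = c
  yc : y c = a
  cent : Nat.card ↥(centralizer ({σ} : Set (Equiv.Perm GolayPt)) ⊓ Cfsg.M24) = 42

/-- The involution of the centraliser. -/
def tau7L : List ℕ :=
  [0, 11, 22, 3, 4, 15, 6, 13, 16, 9, 10, 1, 21, 7, 17, 5, 8, 14, 18, 23, 20, 12, 2, 19]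

/-- The element of order three of the centraliser. -/
def y7L : List ℕ :=
  [2, 11, 22, 13, 19, 15, 17, 3, 10, 5, 16, 18, 20, 7, 6, 9, 8, 14, 1, 23, 21, 12, 0, 4]

theorem seven_lists : m24Test x7L = true ∧ m24Test tau7L = true ∧ m24Test y7L = true ∧
    compL tau7L x7L = compL x7L tau7L ∧ compL y7L x7L = compL x7L y7L ∧
    compL y7L (compL y7L y7L) = List.range 24 ∧
    (List.range 24).filter (fun i => x7L.getD i 0 == i) = [4, 19, 23] := by
  decide +kernel

theorem exists_seven : ∃ σ τ y a b c, SevenPerm σ τ y a b c := by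
  obtain ⟨hx, ht, hy, c1, c2, c3, hfix⟩ := seven_lists
  have vx := valid_of_m24Test hx
  have vt := valid_of_m24Test ht
  have vy := valid_of_m24Test hy
  have hne : ∀ i j : ℕ, i < 24 → j < 24 → i ≠ j → pt i ≠ pt j := fun i j hi hj hij e => hij (by
    rw [← ptEquiv_pt hi, e, ptEquiv_pt hj])
  have ev : ∀ {L : List ℕ}, validL 24 L = true → ∀ i j, i < 24 → L.getD i 0 = j → pL L (pt i) = pt j :=
    fun h i j hi e => by rw [pL_pt h hi, e]
  refine ⟨pL x7L, pL tau7L, pL y7L, pt 19, pt 23, pt 4,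
    { σ_mem := mem_M24_of_test hx
      τ_mem := mem_M24_of_test ht
      y_mem := mem_M24_of_test hy
      σ_ord := ?_
      y_ord := ?_
      τσ := by rw [← pL_compL vt vx, c1, pL_compL vx vt]
      yσ := by rw [← pL_compL vy vx, c2, pL_compL vx vy]
      hab := hne _ _ (by norm_num) (by norm_num) (by norm_num)
      hac := hne _ _ (by norm_num) (by norm_num) (by norm_num)
      hbc := hne _ _ (by norm_num) (by norm_num) (by norm_num)
      fix_iff := ?_
      τa := ev vt _ _ (by norm_num) (by decide)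
      τb := ev vt _ _ (by norm_num) (by decide)
      τc := ev vt _ _ (by norm_num) (by decide)
      ya := ev vy _ _ (by norm_num) (by decide)
      yb := ev vy _ _ (by norm_num) (by decide)
      yc := ev vy _ _ (by norm_num) (by decide)
      cent := ?_ }⟩
  · rw [show pL x7L = (xM7 : Equiv.Perm GolayPt) from rfl, Subgroup.orderOf_coe, orderOf_xM7]
  · haveI := Fact.mk Nat.prime_three
    refine orderOf_eq_prime ?_ fun e => hne 19 23 (by norm_num) (by norm_num) (by norm_num) ?_
    · rw [pow_succ, pow_two, mul_assoc, ← pL_compL vy vy, ← pL_compL vy (validL_compL vy vy), c3, pL_range]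
    · have := ev vy 19 23 (by norm_num) (by decide)
      rwa [e] at this
  · intro p
    obtain ⟨i, hi, rfl⟩ : ∃ i, i < 24 ∧ pt i = p :=
      ⟨(ptEquiv p).val, (ptEquiv p).isLt, by
        apply ptEquiv.injective; apply Fin.ext; rw [ptEquiv_pt (ptEquiv p).isLt]⟩
    have h : (i ∈ [4, 19, 23]) ↔ x7L.getD i 0 = i := by
      rw [← hfix, List.mem_filter, List.mem_range, beq_iff_eq, and_iff_right hi]
    have hd : x7L.getD i 0 < 24 := validL_getD_lt vx hi
    have key : ∀ j, j < 24 → (pt i = pt j ↔ i = j) := fun j hj =>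
      ⟨fun e => by rw [← ptEquiv_pt hi, e, ptEquiv_pt hj], fun e => e ▸ rfl⟩
    rw [pL_pt vx hi, key _ (by norm_num), key _ (by norm_num), key _ (by norm_num)]
    have k2 : pt (x7L.getD i 0) = pt i ↔ x7L.getD i 0 = i :=
      ⟨fun e => by rw [← ptEquiv_pt hd, e, ptEquiv_pt hi], fun e => by rw [e]⟩
    rw [k2]
    rw [← h]
    simp only [List.mem_cons, List.not_mem_nil, or_false]
    omega
  · rw [← (card_zpowers_centralizer orderOf_xM7).1]
    exact (Nat.card_congr
      { toFun := fun g => ⟨((g : ↥Cfsg.M24) : Equiv.Perm GolayPt), mem_inf.2 ⟨mem_centralizer_singleton_iff.2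
          (congrArg Subtype.val (mem_centralizer_singleton_iff.1 g.2)), (g : ↥Cfsg.M24).2⟩⟩
        invFun := fun g => ⟨⟨g, (mem_inf.1 g.2).2⟩,
          mem_centralizer_singleton_iff.2 (Subtype.ext (mem_centralizer_singleton_iff.1 (mem_inf.1 g.2).1))⟩
        left_inv := fun _ => rfl
        right_inv := fun _ => rfl }).symm

namespace SevenPerm

variable {σ τ y : Equiv.Perm GolayPt} {a b c : GolayPt} (p : SevenPerm σ τ y a b c)
include p

/-- An element commuting with `σ` permutes the three fixed points. -/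
theorem move {g : Equiv.Perm GolayPt} (hg : g * σ = σ * g) {x : GolayPt} (hx : x = a ∨ x = b ∨ x = c) :
    g x = a ∨ g x = b ∨ g x = c := by
  refine (p.fix_iff _).1 ?_
  rw [show σ (g x) = (σ * g) x from rfl, ← hg]
  show g (σ x) = g x
  rw [(p.fix_iff x).2 hx]

/-- The stabiliser of a fixed point in the centraliser. -/
theorem card_stab {x : GolayPt} (hx : x = a ∨ x = b ∨ x = c) :
    Nat.card ↥(centralizer ({σ} : Set (Equiv.Perm GolayPt)) ⊓ Cfsg.M24 ⊓
      MulAction.stabilizer (Equiv.Perm GolayPt) x) = 14 := by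
  classical
  set X := centralizer ({σ} : Set (Equiv.Perm GolayPt)) ⊓ Cfsg.M24 with hX
  have hyX : y ∈ X := mem_inf.2 ⟨mem_centralizer_singleton_iff.2 p.yσ, p.y_mem⟩
  have horb : MulAction.orbit X x = ({a, b, c} : Set GolayPt) := by
    ext w
    constructor
    · rintro ⟨g, rfl⟩
      exact p.move (mem_centralizer_singleton_iff.1 (mem_inf.1 g.2).1) hx
    · intro hw
      have h1 : ∀ u v : GolayPt, y u = v → v ∈ MulAction.orbit ↥X u := fun u v e => ⟨⟨y, hyX⟩, e⟩
      have tr : ∀ {u v w : GolayPt}, v ∈ MulAction.orbit ↥X u → w ∈ MulAction.orbit ↥X v →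
          w ∈ MulAction.orbit ↥X u :=
        fun {u v w} h h' => MulAction.orbit_eq_iff.2 h ▸ h'
      have ab := h1 _ _ p.ya
      have bc := h1 _ _ p.yb
      have ca := h1 _ _ p.yc
      rcases hx with e | e | e <;> rcases hw with e' | e' | e' <;> rw [e, e'] <;>
        first | exact MulAction.mem_orbit_self _ | assumption | exact tr ab bc | exact tr bc ca | exact tr ca ab
  have h := (MulAction.stabilizer X x).card_mul_index
  rw [MulAction.index_stabilizer, horb,
    Set.ncard_eq_three.2 ⟨a, b, c, p.hab, p.hac, p.hbc, rfl⟩, hX, p.cent] at h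
  have e : Nat.card ↥(MulAction.stabilizer X x) =
      Nat.card ↥(X ⊓ MulAction.stabilizer (Equiv.Perm GolayPt) x) :=
    Nat.card_congr
      { toFun := fun g => ⟨((g : X) : Equiv.Perm GolayPt), mem_inf.2 ⟨(g : X).2, g.2⟩⟩
        invFun := fun g => ⟨⟨g, (mem_inf.1 g.2).1⟩, (mem_inf.1 g.2).2⟩
        left_inv := fun _ => rfl
        right_inv := fun _ => rfl }
  rw [← e]
  change Nat.card ↥(MulAction.stabilizer X x) * 3 = 42 at h
  omega

end SevenPerm

end CfsgLib.JankoFour.Seven
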