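import Cfsg.Agent.Lib.JankoFour.Seven.Local
import Cfsg.Agent.Lib.JankoFour.Seven.Perm
import Mathlib.GroupTheory.Sylow

/-!
# An element of order seven in the normaliser of the group labelled by pairs
-/

set_option autoImplicit false
set_option linter.unusedSectionVars false

namespace CfsgLib.JankoFour.Seven

open Subgroup
open Cfsg (GolayPt)

/-- Centralisers lift through a kernel of order prime to seven. -/
theorem exists_lift_comm {N K : Type*} [Group N] [Finite N] [Group K] (ψ : N →* K)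
    (hk : ¬ 7 ∣ Nat.card ψ.ker) {s : N} (hs : orderOf s = 7) (hs' : orderOf (ψ s) = 7) (g : N)
    (h : ψ g * ψ s = ψ s * ψ g) : ∃ g' : N, ψ g' = ψ g ∧ g' * s = s * g' := by
  haveI : Fact (Nat.Prime 7) := ⟨by norm_num⟩
  let L : Subgroup N := (zpowers (ψ s)).comap ψ
  have hsL : s ∈ L := mem_zpowers (ψ s)
  have hcon : ψ (g * s * g⁻¹) = ψ s := by rw [map_mul, map_mul, map_inv, h, mul_inv_cancel_right]
  have huL : g * s * g⁻¹ ∈ L := by
    show ψ (g * s * g⁻¹) ∈ zpowers (ψ s)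
    rw [hcon]; exact mem_zpowers _
  let f : L →* zpowers (ψ s) :=
    { toFun := fun l => ⟨ψ (l : N), l.2⟩
      map_one' := Subtype.ext (map_one ψ)
      map_mul' := fun x y => Subtype.ext (map_mul ψ (x : N) (y : N)) }
  have hf : Function.Surjective f := fun x => by
    obtain ⟨i, hi⟩ := mem_zpowers_iff.1 x.2
    exact ⟨⟨s ^ i, zpow_mem hsL i⟩, Subtype.ext (by show ψ (s ^ i) = _; rw [map_zpow, hi])⟩
  have hker : Nat.card f.ker = Nat.card ψ.ker := Nat.card_congr
    { toFun := fun x => ⟨((x : L) : N), congrArg Subtype.val x.2⟩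
      invFun := fun x => ⟨⟨(x : N), by show ψ (x : N) ∈ zpowers (ψ s); rw [show ψ x = 1 from x.2]; exact one_mem _⟩, Subtype.ext x.2⟩
      left_inv := fun _ => rfl
      right_inv := fun _ => rfl }
  have hcard : Nat.card L = Nat.card ψ.ker * 7 := by
    rw [← f.ker.card_mul_index, Subgroup.index_ker, MonoidHom.range_eq_top.2 hf, Subgroup.card_top, hker,
      Nat.card_zpowers, hs']
  have hfac : (Nat.card L).factorization 7 = 1 := by
    rw [hcard, Nat.factorization_mul (by exact Nat.card_pos.ne') (by norm_num), Finsupp.add_apply,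
      Nat.factorization_eq_zero_of_not_dvd hk, zero_add, Nat.Prime.factorization_self (by norm_num)]
  have mk : ∀ u : L, orderOf u = 7 → ∃ P : Sylow 7 L, (P : Subgroup L) = zpowers u := fun u hu =>
    ⟨Sylow.ofCard (zpowers u) (by rw [Nat.card_zpowers, hu, hfac, pow_one]), rfl⟩
  obtain ⟨P, hP⟩ := mk ⟨s, hsL⟩ (by rw [Subgroup.orderOf_mk, hs])
  obtain ⟨R, hR⟩ := mk ⟨g * s * g⁻¹, huL⟩ (by
    rw [Subgroup.orderOf_mk]
    exact (orderOf_injective (MulAut.conj g).toMonoidHom (MulAut.conj g).injective s).trans hs)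
  obtain ⟨l, hl⟩ := MulAction.exists_smul_eq L R P
  have hm : l * ⟨g * s * g⁻¹, huL⟩ * l⁻¹ ∈ zpowers (⟨s, hsL⟩ : L) := by
    rw [← hP, ← hl, Sylow.coe_subgroup_smul]
    exact Subgroup.smul_mem_pointwise_smul _ (MulAut.conj l) _ (hR.symm ▸ mem_zpowers _)
  obtain ⟨j, hj⟩ := mem_zpowers_iff.1 hm
  obtain ⟨i, hi⟩ := mem_zpowers_iff.1 (l.2 : ψ (l : N) ∈ zpowers (ψ s))
  have hj' : s ^ j = (l : N) * (g * s * g⁻¹) * (l : N)⁻¹ := by
    have := congrArg Subtype.val hj
    simpa using this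
  have hj1 : (ψ s) ^ j = ψ s := by
    rw [← map_zpow, hj', map_mul, map_mul, map_inv, hcon, ← hi, ← zpow_one (ψ s), ← zpow_neg, ← zpow_mul,
      one_mul, zpow_one, ← zpow_add_one, ← zpow_add]
    rw [show i + 1 + -i = 1 by ring, zpow_one]
  have hj7 : s ^ j = s := by
    have hd : (7 : ℤ) ∣ j - 1 := by
      have h1 : (ψ s) ^ (j - 1) = 1 := by rw [zpow_sub_one, hj1, mul_inv_cancel]
      have h2 := orderOf_dvd_iff_zpow_eq_one.2 h1
      rwa [hs'] at h2
    have h3 : s ^ (j - 1) = 1 := orderOf_dvd_iff_zpow_eq_one.1 (by rw [hs]; exact hd)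
    rw [zpow_sub_one, mul_inv_eq_one] at h3
    exact h3
  rw [hj7] at hj'
  refine ⟨s ^ (-i) * ((l : N) * g), ?_, ?_⟩
  · rw [map_mul, map_mul, map_zpow, ← hi, ← mul_assoc, ← zpow_add, neg_add_cancel, zpow_zero, one_mul]
  · have h1 : (l : N) * g * s = s * ((l : N) * g) := by
      refine mul_inv_eq_iff_eq_mul.1 ?_
      refine Eq.trans ?_ hj'.symm
      group
    calc s ^ (-i) * ((l : N) * g) * s = s ^ (-i) * ((l : N) * g * s) := by group
      _ = s ^ (-i) * (s * ((l : N) * g)) := by rw [h1]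
      _ = s * (s ^ (-i) * ((l : N) * g)) := by group

variable {G : Type*} [Group G] [Finite G] {z : G} {A : Subgroup G} {f : GolayPt → G}
  {ψ : ↥(normalizer (A : Set G)) →* Equiv.Perm GolayPt}

/-- The properties of the labelled group that are used. -/
structure Labelled (z : G) (A : Subgroup G) (f : GolayPt → G)
    (ψ : ↥(normalizer (A : Set G)) →* Equiv.Perm GolayPt) : Prop where
  elem : Cfsg.IsElementaryAbelian 2 A
  card : Nat.card A = 2 ^ 11
  mem : ∀ a, f a ∈ A
  pair : ∀ a b, a ≠ b → f a * f b ≠ 1 ∧ ¬ IsConj z (f a * f b)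
  cover : ∀ x ∈ A, x ≠ 1 → ¬ IsConj z x → ∃ a b, a ≠ b ∧ f a * f b = x
  inj : ∀ a b c d, a ≠ b → c ≠ d → f a * f b = f c * f d → a = c ∧ b = d ∨ a = d ∧ b = c
  act : ∀ (m : ↥(normalizer (A : Set G))) a b,
    (m : G) * (f a * f b) * (m : G)⁻¹ = f (ψ m a) * f (ψ m b)
  ker : ∀ m, ψ m = 1 ↔ (m : G) ∈ A
  range : ψ.range = Cfsg.M24
  cent_le : ∀ x ∈ A, x ≠ 1 → ¬ IsConj z x → centralizer ({x} : Set G) ≤ normalizer (A : Set G)
  seven : ∀ x ∈ A, IsConj z x → ¬ 7 ∣ Nat.card ↥(normalizer (A : Set G) ⊓ centralizer ({x} : Set G))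

/-- What is found at the element of order seven. -/
structure Found (z : G) (S : Subgroup G) (t t₁ v y : G) : Prop where
  cardS : Nat.card S = 7
  t_ord : orderOf t = 2
  t1_ord : orderOf t₁ = 2
  t_mem : t ∈ centralizer (S : Set G)
  t1_mem : t₁ ∈ centralizer (S : Set G)
  v_mem : v ∈ centralizer (S : Set G)
  y_mem : y ∈ centralizer (S : Set G)
  y_ord : orderOf y = 3
  comm : t * t₁ = t₁ * t
  ne : t ≠ t₁
  ct : Nat.card ↥(centralizer ({t} : Set G) ⊓ centralizer (S : Set G)) = 56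
  ct1 : Nat.card ↥(centralizer ({t₁} : Set G) ⊓ centralizer (S : Set G)) = 56
  ct2 : Nat.card ↥(centralizer ({t * t₁} : Set G) ⊓ centralizer (S : Set G)) = 56
  nt : ¬ IsConj z t
  nt1 : ¬ IsConj z t₁
  nt2 : ¬ IsConj z (t * t₁)
  vt : v * t = t * v
  vt1 : v * t₁ ≠ t₁ * v

theorem Labelled.exists_found (F : Labelled z A f ψ) : ∃ S t t₁ v y, Found z S t t₁ v y := by
  classical
  obtain ⟨σ, τ, ŷ, a, b, c, p⟩ := exists_seven
  have hcomm : ∀ {x x' : G}, x ∈ A → x' ∈ A → x * x' = x' * x := fun {x x'} hx hx' =>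
    congrArg Subtype.val (F.elem.1.is_comm.comm ⟨x, hx⟩ ⟨x', hx'⟩)
  have hsq : ∀ {x : G}, x ∈ A → x * x = 1 := fun {x} hx => by rw [← pow_two]; exact F.elem.2 x hx
  have hkerC : Nat.card ψ.ker = 2 ^ 11 := by
    rw [← F.card]
    exact Nat.card_congr
      { toFun := fun m => ⟨((m : ↥(normalizer (A : Set G))) : G), (F.ker _).1 m.2⟩
        invFun := fun x => ⟨⟨x, Subgroup.le_normalizer x.2⟩, (F.ker _).2 x.2⟩
        left_inv := fun _ => rfl
        right_inv := fun _ => rfl }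
  have hk7 : ¬ 7 ∣ Nat.card ψ.ker := by rw [hkerC]; norm_num
  -- the lift of `σ`
  obtain ⟨m, hm⟩ : σ ∈ ψ.range := F.range ▸ p.σ_mem
  set s : ↥(normalizer (A : Set G)) := m ^ 8 with hs
  have hψs : ψ s = σ := by
    rw [hs, map_pow, hm, show (8 : ℕ) = 7 + 1 from rfl, pow_succ, ← p.σ_ord, pow_orderOf_eq_one, one_mul]
  have hm7 : ((m ^ 7 : ↥(normalizer (A : Set G))) : G) ∈ A := (F.ker _).1 (by rw [map_pow, hm, ← p.σ_ord, pow_orderOf_eq_one])
  have hm14 : m ^ 14 = 1 := Subtype.ext (by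
    rw [show (14 : ℕ) = 7 + 7 from rfl, pow_add]; exact hsq hm7)
  haveI : Fact (Nat.Prime 7) := ⟨by norm_num⟩
  have hs7 : orderOf s = 7 := by
    refine orderOf_eq_prime ?_ fun e => ?_
    · rw [hs, ← pow_mul, show 8 * 7 = 14 * 4 from rfl, pow_mul, hm14, one_pow]
    · have h := hψs
      rw [e, map_one] at h
      have h7 := p.σ_ord
      rw [← h, orderOf_one] at h7
      omega
  set sG : G := (s : G) with hsG
  have hsG7 : orderOf sG = 7 := by rw [hsG, Subgroup.orderOf_coe, hs7]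
  set S : Subgroup G := zpowers sG with hS
  have memS : ∀ g : G, g ∈ centralizer (S : Set G) ↔ g * sG = sG * g := fun g => by
    refine ⟨fun h => (mem_centralizer_iff.1 h sG (mem_zpowers sG)).symm, fun h => mem_centralizer_iff.2 ?_⟩
    intro x hx
    obtain ⟨i, rfl⟩ := mem_zpowers_iff.1 hx
    exact ((show Commute g sG from h).zpow_right i).eq.symm
  -- fixed elements of `A`
  have hfixp : ∀ p₁ p₂, (p₁ = a ∨ p₁ = b ∨ p₁ = c) → (p₂ = a ∨ p₂ = b ∨ p₂ = c) →
      f p₁ * f p₂ * sG = sG * (f p₁ * f p₂) := fun p₁ p₂ h₁ h₂ => by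
    have h := F.act s p₁ p₂
    rw [hψs, (p.fix_iff _).2 h₁, (p.fix_iff _).2 h₂, mul_inv_eq_iff_eq_mul] at h
    exact h.symm
  have hCA : ∀ x ∈ A, x * sG = sG * x → x = 1 ∨ x = f a * f b ∨ x = f a * f c ∨ x = f b * f c := by
    intro x hx hxs
    by_cases hx1 : x = 1
    · exact .inl hx1
    by_cases hz : IsConj z x
    · exfalso
      apply F.seven x hx hz
      have := Subgroup.orderOf_dvd_natCard ((normalizer (A : Set G)) ⊓ centralizer ({x} : Set G))
        (mem_inf.2 ⟨s.2, mem_centralizer_singleton_iff.2 hxs.symm⟩)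
      rwa [hsG7] at this
    obtain ⟨p₁, p₂, hp, rfl⟩ := F.cover x hx hx1 hz
    have h := F.act s p₁ p₂
    rw [hψs, show (s : G) * (f p₁ * f p₂) = f p₁ * f p₂ * s from hxs.symm, mul_inv_cancel_right] at h
    have h7 : σ ^ 7 = 1 := p.σ_ord ▸ pow_orderOf_eq_one σ
    have hfix : σ p₁ = p₁ ∧ σ p₂ = p₂ := by
      rcases F.inj _ _ _ _ hp (fun e => hp (σ.injective e)) h with ⟨e1, e2⟩ | ⟨e1, e2⟩
      · exact ⟨e1.symm, e2.symm⟩
      · exfalso
        have h2 : (σ ^ 7) p₁ = p₂ := by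
          simp only [pow_succ, pow_zero, one_mul, Equiv.Perm.mul_apply, ← e1, ← e2]
        rw [h7] at h2
        exact hp h2
    rcases (p.fix_iff _).1 hfix.1 with e | e | e <;> rcases (p.fix_iff _).1 hfix.2 with e' | e' | e' <;>
      rw [e, e'] at hp ⊢ <;>
      first | exact absurd rfl hp | (right; first
        | exact .inl rfl | exact .inl (hcomm (F.mem _) (F.mem _))
        | exact .inr (.inl rfl) | exact .inr (.inl (hcomm (F.mem _) (F.mem _)))
        | exact .inr (.inr rfl) | exact .inr (.inr (hcomm (F.mem _) (F.mem _))))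
  have mem3 : ∀ p₁ p₂, (p₁ = a ∨ p₁ = b ∨ p₁ = c) → (p₂ = a ∨ p₂ = b ∨ p₂ = c) →
      f p₁ * f p₂ ∈ centralizer (S : Set G) := fun p₁ p₂ h₁ h₂ => (memS _).2 (hfixp p₁ p₂ h₁ h₂)
  have meet : f a * f b * (f a * f c) = f b * f c := by
    rw [hcomm (F.mem a) (F.mem b)]
    calc f b * f a * (f a * f c) = f b * (f a * f a) * f c := by group
      _ = f b * f c := by rw [hsq (F.mem a), mul_one]
  have ne_ab_ac : f a * f b ≠ f a * f c := fun e => by
    rcases F.inj _ _ _ _ p.hab p.hac e with ⟨-, h⟩ | ⟨h, -⟩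
    · exact p.hbc h
    · exact p.hac h
  -- lifting from the centraliser of `σ`
  have lift : ∀ g ∈ Cfsg.M24, g * σ = σ * g → ∃ g' : ↥(normalizer (A : Set G)), ψ g' = g ∧ (g' : G) * sG = sG * g' := by
    intro g hg hgσ
    obtain ⟨g₀, hg₀⟩ : g ∈ ψ.range := F.range ▸ hg
    obtain ⟨g', h1, h2⟩ := exists_lift_comm ψ hk7 hs7 (by rw [hψs]; exact p.σ_ord) g₀
      (by rw [hg₀, hψs]; exact hgσ)
    exact ⟨g', h1.trans hg₀, congrArg Subtype.val h2⟩
  -- the centralisers
  have hcount : ∀ p₁ p₂ p₃, p₁ ≠ p₂ → p₁ ≠ p₃ → p₂ ≠ p₃ → (p₁ = a ∨ p₁ = b ∨ p₁ = c) →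
      (p₂ = a ∨ p₂ = b ∨ p₂ = c) → (p₃ = a ∨ p₃ = b ∨ p₃ = c) →
      Nat.card ↥(centralizer ({f p₁ * f p₂} : Set G) ⊓ centralizer (S : Set G)) = 56 := by
    intro p₁ p₂ p₃ h12 h13 h23 k1 k2 k3
    set t := f p₁ * f p₂ with ht
    have htA : t ∈ A := mul_mem (F.mem _) (F.mem _)
    have hle : centralizer ({t} : Set G) ⊓ centralizer (S : Set G) ≤ normalizer (A : Set G) :=
      inf_le_left.trans (F.cent_le t htA (F.pair _ _ h12).1 (F.pair _ _ h12).2)
    set D := centralizer ({t} : Set G) ⊓ centralizer (S : Set G) with hD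
    have three : ∀ u, u = a ∨ u = b ∨ u = c → u = p₁ ∨ u = p₂ ∨ u = p₃ := by
      have hab := p.hab; have hac := p.hac; have hbc := p.hbc
      intro u hu
      rcases k1 with e1 | e1 | e1 <;> rcases k2 with e2 | e2 | e2 <;> rcases k3 with e3 | e3 | e3 <;>
        rcases hu with e | e | e <;> simp_all
    have mapsto : ∀ d : ↥D, ψ ⟨d, hle d.2⟩ ∈
        centralizer ({σ} : Set (Equiv.Perm GolayPt)) ⊓ Cfsg.M24 ⊓
          MulAction.stabilizer (Equiv.Perm GolayPt) p₃ := by
      intro d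
      set g := ψ ⟨(d : G), hle d.2⟩ with hg
      have hgσ : g * σ = σ * g := by
        rw [hg, ← hψs, ← map_mul, ← map_mul]
        exact congrArg ψ (Subtype.ext ((memS _).1 (mem_inf.1 d.2).2))
      refine mem_inf.2 ⟨mem_inf.2 ⟨mem_centralizer_singleton_iff.2 hgσ, F.range ▸ ⟨_, rfl⟩⟩, ?_⟩
      have h := F.act ⟨(d : G), hle d.2⟩ p₁ p₂
      rw [show (d : G) * (f p₁ * f p₂) = f p₁ * f p₂ * d from
        (mem_centralizer_singleton_iff.1 (mem_inf.1 d.2).1), mul_inv_cancel_right] at h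
      show g p₃ = p₃
      rcases F.inj _ _ _ _ h12 (fun e => h12 (g.injective e)) h with ⟨e1, e2⟩ | ⟨e1, e2⟩ <;>
        rcases three _ (p.move hgσ k3) with e | e | e
      all_goals first
        | exact e
        | exact absurd (g.injective (e.trans e1)) (Ne.symm h13)
        | exact absurd (g.injective (e.trans e2)) (Ne.symm h23)
        | exact absurd (g.injective (e.trans e1)) (Ne.symm h23)
        | exact absurd (g.injective (e.trans e2)) (Ne.symm h13)
    let χ : ↥D →* ↥(centralizer ({σ} : Set (Equiv.Perm GolayPt)) ⊓ Cfsg.M24 ⊓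
        MulAction.stabilizer (Equiv.Perm GolayPt) p₃) :=
      { toFun := fun d => ⟨ψ ⟨d, hle d.2⟩, mapsto d⟩
        map_one' := Subtype.ext (map_one ψ)
        map_mul' := fun x x' => Subtype.ext (map_mul ψ ⟨x, hle x.2⟩ ⟨x', hle x'.2⟩) }
    have hsurj : Function.Surjective χ := by
      rintro ⟨g, hg⟩
      obtain ⟨⟨hgσ', hgM⟩, hg3⟩ := mem_inf.1 hg
      have hgσ := mem_centralizer_singleton_iff.1 hgσ'
      obtain ⟨g', e1, e2⟩ := lift g hgM hgσ
      have hg3' : g p₃ = p₃ := hg3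
      have hct : (g' : G) * t = t * g' := by
        have h := F.act g' p₁ p₂
        rw [e1] at h
        refine mul_inv_eq_iff_eq_mul.1 (h.trans ?_)
        have hne : ∀ u, u ≠ p₃ → g u ≠ p₃ := fun u hu e => hu (g.injective (e.trans hg3'.symm))
        rcases three _ (p.move hgσ k1) with e | e | e
        · rcases three _ (p.move hgσ k2) with e' | e' | e'
          · exact absurd (g.injective (e.trans e'.symm)) h12
          · rw [e, e']
          · exact absurd e' (hne _ h23)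
        · rcases three _ (p.move hgσ k2) with e' | e' | e'
          · rw [e, e']; exact hcomm (F.mem _) (F.mem _)
          · exact absurd (g.injective (e.trans e'.symm)) h12
          · exact absurd e' (hne _ h23)
        · exact absurd e (hne _ h13)
      exact ⟨⟨g', mem_inf.2 ⟨mem_centralizer_singleton_iff.2 hct, (memS _).2 e2⟩⟩, Subtype.ext e1⟩
    have hker : Nat.card χ.ker = 4 := by
      have hall : ∀ x, x = 1 ∨ x = f a * f b ∨ x = f a * f c ∨ x = f b * f c →
          x ∈ A ∧ x ∈ centralizer (S : Set G) := by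
        rintro x (rfl | rfl | rfl | rfl)
        · exact ⟨one_mem _, one_mem _⟩
        · exact ⟨mul_mem (F.mem _) (F.mem _), mem3 _ _ (.inl rfl) (.inr (.inl rfl))⟩
        · exact ⟨mul_mem (F.mem _) (F.mem _), mem3 _ _ (.inl rfl) (.inr (.inr rfl))⟩
        · exact ⟨mul_mem (F.mem _) (F.mem _), mem3 _ _ (.inr (.inl rfl)) (.inr (.inr rfl))⟩
      have himg : (fun d : ↥D => (d : G)) '' (χ.ker : Set ↥D) =
          ({1, f a * f b, f a * f c, f b * f c} : Set G) := by
        ext x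
        constructor
        · rintro ⟨d, hd, rfl⟩
          exact hCA _ ((F.ker _).1 (congrArg Subtype.val (show χ d = 1 from hd)))
            ((memS _).1 (mem_inf.1 d.2).2)
        · intro hx
          obtain ⟨hxA, hxS⟩ := hall x hx
          refine ⟨⟨x, mem_inf.2 ⟨mem_centralizer_singleton_iff.2 (hcomm hxA htA), hxS⟩⟩, ?_, rfl⟩
          exact Subtype.ext ((F.ker _).2 hxA)
      have h := congrArg Set.ncard himg
      rw [Set.ncard_image_of_injective _ Subtype.val_injective, ← Nat.card_coe_set_eq] at h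
      have h1 := (F.pair _ _ p.hab).1
      have h2 := (F.pair _ _ p.hac).1
      have h3 := (F.pair _ _ p.hbc).1
      have h5 : f a * f b ≠ f b * f c := fun e => by
        rcases F.inj _ _ _ _ p.hab p.hbc e with ⟨h, -⟩ | ⟨h, -⟩
        · exact p.hab h
        · exact p.hac h
      have h6 : f a * f c ≠ f b * f c := fun e => p.hab (by
        rcases F.inj _ _ _ _ p.hac p.hbc e with ⟨h, -⟩ | ⟨h, h'⟩
        · exact h
        · exact absurd h p.hac)
      refine (show Nat.card χ.ker = _ from h).trans ?_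
      rw [Set.ncard_insert_of_notMem (by simp [h1.symm, h2.symm, h3.symm]) (Set.toFinite _),
        Set.ncard_insert_of_notMem (by simp [ne_ab_ac, h5]) (Set.toFinite _), Set.ncard_pair h6]
    have h := χ.ker.card_mul_index
    rw [Subgroup.index_ker, MonoidHom.range_eq_top.2 hsurj, Subgroup.card_top, hker, p.card_stab k3] at h
    omega
  obtain ⟨v, hv1, hv2⟩ := lift τ p.τ_mem p.τσ
  obtain ⟨y₀, hy1, hy2⟩ := lift ŷ p.y_mem p.yσ
  have hfa : ∀ p₁ p₂ : GolayPt, p₁ ≠ p₂ → orderOf (f p₁ * f p₂) = 2 := fun p₁ p₂ h =>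
    ord_two (hsq (mul_mem (F.mem _) (F.mem _))) (F.pair _ _ h).1
  have hy3 : ((y₀ ^ 3 : ↥(normalizer (A : Set G))) : G) ∈ A := (F.ker _).1 (by rw [map_pow, hy1, ← p.y_ord, pow_orderOf_eq_one])
  have hy6 : y₀ ^ 6 = 1 := Subtype.ext (by rw [show (6 : ℕ) = 3 + 3 from rfl, pow_add]; exact hsq hy3)
  have hyord : orderOf ((y₀ : G) ^ 4) = 3 := by
    haveI := Fact.mk Nat.prime_three
    rw [← SubgroupClass.coe_pow, Subgroup.orderOf_coe]
    refine orderOf_eq_prime ?_ fun e => ?_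
    · rw [← pow_mul, show 4 * 3 = 6 * 2 from rfl, pow_mul, hy6, one_pow]
    · have h := congrArg ψ e
      rw [map_pow, hy1, map_one, show (4 : ℕ) = 3 + 1 from rfl, pow_succ, ← p.y_ord, pow_orderOf_eq_one,
        one_mul] at h
      have h3 := p.y_ord
      rw [h, orderOf_one] at h3
      omega
  refine ⟨S, f a * f b, f a * f c, (v : G), (y₀ : G) ^ 4,
    { cardS := by rw [hS, Nat.card_zpowers, hsG7]
      t_ord := hfa _ _ p.hab
      t1_ord := hfa _ _ p.hac
      t_mem := mem3 _ _ (.inl rfl) (.inr (.inl rfl))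
      t1_mem := mem3 _ _ (.inl rfl) (.inr (.inr rfl))
      v_mem := (memS _).2 hv2
      y_mem := pow_mem ((memS _).2 hy2) 4
      y_ord := hyord
      comm := hcomm (mul_mem (F.mem _) (F.mem _)) (mul_mem (F.mem _) (F.mem _))
      ne := ne_ab_ac
      ct := hcount a b c p.hab p.hac p.hbc (.inl rfl) (.inr (.inl rfl)) (.inr (.inr rfl))
      ct1 := hcount a c b p.hac p.hab p.hbc.symm (.inl rfl) (.inr (.inr rfl)) (.inr (.inl rfl))
      ct2 := by
        rw [meet]
        exact hcount b c a p.hbc p.hab.symm p.hac.symm (.inr (.inl rfl)) (.inr (.inr rfl)) (.inl rfl)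
      nt := (F.pair _ _ p.hab).2
      nt1 := (F.pair _ _ p.hac).2
      nt2 := by rw [meet]; exact (F.pair _ _ p.hbc).2
      vt := ?_
      vt1 := ?_ }⟩
  · have h := F.act v a b
    rw [hv1, p.τa, p.τb, hcomm (F.mem b) (F.mem a)] at h
    exact mul_inv_eq_iff_eq_mul.1 h
  · intro h'
    have h := F.act v a c
    rw [hv1, p.τa, p.τc, h', mul_inv_cancel_right] at h
    rcases F.inj _ _ _ _ p.hac p.hbc h with ⟨h1, -⟩ | ⟨h1, -⟩
    · exact p.hab h1
    · exact p.hac h1

end CfsgLib.JankoFour.Seven
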