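import Cfsg.Agent.Lib.JankoFour.Rigid.Rig
import Cfsg.Agent.Lib.MTwentyTwoUnique.Concrete
import Cfsg.Agent.Lib.JankoFour.Seven.Pairs

/-!
# The elements of order seven in the rigid model
-/

set_option autoImplicit false
set_option linter.unusedSectionVars false
set_option maxHeartbeats 600000

namespace CfsgLib.JankoFour.Seven

open Subgroup

/-- The word of an outer element of order fourteen. -/
def word14 : List ℕ := [4, 2, 0]

/-- The word of an element squaring the element of order seven. -/
def wordSq : List ℕ := [2, 0, 2, 0, 0, 2, 0, 4, 2, 0, 1]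

/-- The matrix of order seven. -/
def matSeven : List ℕ := Rigid.comp (Rigid.wordG word14) (Rigid.wordG word14)

theorem seven_fix : ((List.range 4096).all fun x => (Rigid.app matSeven x != x) || x == 0) = true := by
  decide +kernel

theorem seven_pow : Rigid.comp matSeven (Rigid.comp matSeven (Rigid.comp matSeven (Rigid.comp matSeven
    (Rigid.comp matSeven (Rigid.comp matSeven matSeven))))) = Rigid.mI := by decide +kernel

theorem seven_ne : matSeven ≠ Rigid.mI := by decide +kernel

theorem seven_sq : Rigid.comp (Rigid.wordG wordSq) matSeven =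
    Rigid.comp (Rigid.comp matSeven matSeven) (Rigid.wordG wordSq) := by decide +kernel

attribute [irreducible] matSeven

variable {V : Type*} [AddCommGroup V] [Module (ZMod 2) V] [Finite V]
  {K : Type*} [Group K] [Finite K] [DistribMulAction K V]

/-- What is used about the elements of order seven of the quotient. -/
structure SevenFacts (V : Type*) (K : Type*) [AddCommGroup V] [Group K] [DistribMulAction K V] : Prop where
  fix : ∀ s : K, orderOf s = 7 → ∀ v : V, s • v = v → v = 0
  cent : ∀ s : K, orderOf s = 7 → Nat.card (centralizer ({s} : Set K)) = 42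
  norm : ∀ s : K, orderOf s = 7 → Nat.card ↥(normalizer ((zpowers s : Subgroup K) : Set K)) = 126

theorem mem_normalizer_zpowers {s g : K} :
    g ∈ normalizer ((zpowers s : Subgroup K) : Set K) ↔ g * s * g⁻¹ ∈ zpowers s := by
  refine ⟨fun h => (mem_normalizer_iff.1 h s).1 (mem_zpowers s), fun h => ?_⟩
  refine mem_normalizer_iff.2 fun x => ?_
  have hmap : (zpowers s).map (MulAut.conj g).toMonoidHom = zpowers s := by
    rw [MonoidHom.map_zpowers]
    refine Subgroup.eq_of_le_of_card_ge (zpowers_le.2 h) ?_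
    rw [Nat.card_zpowers, Nat.card_zpowers]
    exact le_of_eq (orderOf_injective (MulAut.conj g).toMonoidHom (MulAut.conj g).injective s).symm
  have h2 : x ∈ zpowers s ↔ g * x * g⁻¹ ∈ (zpowers s).map (MulAut.conj g).toMonoidHom :=
    (Subgroup.mem_map_iff_mem (f := (MulAut.conj g).toMonoidHom) (MulAut.conj g).injective (x := x)).symm
  rwa [hmap] at h2

/-- A power relation between elements of order seven. -/
theorem pow_eq_of_mem {s s' : K} (hs : orderOf s = 7) (hs' : orderOf s' = 7) (h : s' ∈ zpowers s) :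
    zpowers s' = zpowers s :=
  Subgroup.eq_of_le_of_card_ge (zpowers_le.2 h) (by rw [Nat.card_zpowers, Nat.card_zpowers, hs, hs'])

theorem centralizer_eq (s : K) : centralizer ({s} : Set K) = centralizer ((zpowers s : Subgroup K) : Set K) := by
  rw [zpowers_eq_closure, centralizer_closure]

open CfsgLib.JankoFour in
theorem Rig.sevenFacts {q : QuadraticForm (ZMod 2) V} {n : K} {M : Subgroup K} {crd : ℕ → V} {a f u t : K}
    (R : Rig q n M crd a f u t) : SevenFacts V K := by
  obtain ⟨φ, c⟩ := R.core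
  haveI : Fact (Nat.Prime 7) := ⟨by norm_num⟩
  have hm22 := CfsgLib.MTwentyTwoUnique.local_M22
  set x := wordK a f u n t word14 with hx
  set k := wordK a f u n t wordSq
  have hxA : Acts crd x (Rigid.wordG word14) := R.acts_word _
  have hkA : Acts crd k (Rigid.wordG wordSq) := R.acts_word _
  set s₀ := x * x with hs₀
  have hsA : Acts crd s₀ matSeven := by
    unfold matSeven
    exact hxA.mul hxA
  have hsv : Rigid.Valid matSeven = true := by
    unfold matSeven
    exact Rigid.comp_valid (Rigid.wordG_valid _) (Rigid.wordG_valid _)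
  have hs7' : s₀ * (s₀ * (s₀ * (s₀ * (s₀ * (s₀ * s₀))))) = 1 := by
    have h := hsA.mul (hsA.mul (hsA.mul (hsA.mul (hsA.mul (hsA.mul hsA)))))
    rw [seven_pow] at h
    exact R.acts_unique h R.acts_one
  have hs1 : s₀ ≠ 1 := fun e => by
    have h := hsA
    rw [e] at h
    exact seven_ne (R.acts_ext hsv (Bool.and_eq_true _ _ ▸ Rigid.gens_valid).2 h R.acts_one)
  have hs7 : orderOf s₀ = 7 := orderOf_eq_prime (by
    simp only [pow_succ, pow_zero, one_mul, mul_assoc]; exact hs7') hs1
  have hks : k * s₀ = s₀ * s₀ * k := by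
    have h := hkA.mul hsA
    rw [seven_sq] at h
    exact R.acts_unique h ((hsA.mul hsA).mul hkA)
  have hxs : x * s₀ = s₀ * x := by rw [hs₀, mul_assoc]
  have hidx := c.indexM
  have hxM : x ∉ M := by
    rw [hx]
    show t * (u * (a * 1)) ∉ M
    rw [mul_one, Subgroup.mul_mem_iff_of_index_two hidx]
    simp [R.tm, mul_mem R.um R.am]
  have odd_mem : ∀ s : K, orderOf s = 7 → s ∈ M := fun s hs => by
    haveI := Subgroup.normal_of_index_eq_two hidx
    have h2 : s ^ 2 ∈ M := Subgroup.sq_mem_of_index_two hidx s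
    have h : s = (s ^ 2) ^ 4 := by
      rw [← pow_mul, show 2 * 4 = 7 + 1 from rfl, pow_succ, ← hs, pow_orderOf_eq_one, one_mul]
    rw [h]; exact pow_mem h2 4
  have n3 : n ^ 3 = 1 := by rw [← c.ordn, pow_orderOf_eq_one]
  have hker : Nat.card φ.ker = 3 := by
    rw [← c.ordn, ← Nat.card_zpowers]
    exact Nat.card_congr
      { toFun := fun m => ⟨((m : M) : K), (c.ker _).1 m.2⟩
        invFun := fun m => ⟨⟨m, zpowers_le.2 c.nM m.2⟩, (c.ker _).2 m.2⟩
        left_inv := fun _ => rfl
        right_inv := fun _ => rfl }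
  have hk7 : ¬ 7 ∣ Nat.card φ.ker := by rw [hker]; norm_num
  have himg : ∀ (s : K) (hs : orderOf s = 7), orderOf (φ ⟨s, odd_mem s hs⟩) = 7 := fun s hs => by
    refine orderOf_eq_prime ?_ fun e => ?_
    · rw [← map_pow, show (⟨s, odd_mem s hs⟩ : M) ^ 7 = 1 from Subtype.ext (hs ▸ pow_orderOf_eq_one s), map_one]
    · have h := Subgroup.orderOf_dvd_natCard _ ((c.ker _).1 e)
      rw [Nat.card_zpowers, c.ordn, hs] at h
      norm_num at h
  -- the two subgroups of `M`
  have hCM : ∀ (s : K), orderOf s = 7 → Nat.card ↥(centralizer ({s} : Set K) ⊓ M) = 21 := by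
    intro s hs
    have hsM := odd_mem s hs
    let χ : ↥(centralizer ({s} : Set K) ⊓ M) →* ↥(centralizer ({φ ⟨s, hsM⟩} : Set ↥Cfsg.Spor.M22)) :=
      { toFun := fun g => ⟨φ ⟨g, (mem_inf.1 g.2).2⟩, mem_centralizer_singleton_iff.2 (by
          rw [← map_mul, ← map_mul]
          exact congrArg φ (Subtype.ext (mem_centralizer_singleton_iff.1 (mem_inf.1 g.2).1)))⟩
        map_one' := Subtype.ext (map_one φ)
        map_mul' := fun g g' => Subtype.ext (map_mul φ ⟨g, (mem_inf.1 g.2).2⟩ ⟨g', (mem_inf.1 g'.2).2⟩) }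
    have hsurj : Function.Surjective χ := by
      rintro ⟨w, hw⟩
      obtain ⟨g, hg⟩ := c.surj w
      obtain ⟨g', h1, h2⟩ := exists_lift_comm φ hk7 (s := ⟨s, hsM⟩) (by rw [Subgroup.orderOf_mk, hs]) (himg s hs) g
        (by rw [hg]; exact mem_centralizer_singleton_iff.1 hw)
      exact ⟨⟨g', mem_inf.2 ⟨mem_centralizer_singleton_iff.2 (congrArg Subtype.val h2), g'.2⟩⟩,
        Subtype.ext (h1.trans hg)⟩
    have hkχ : Nat.card χ.ker = 3 := by
      rw [← hker]
      exact Nat.card_congr
        { toFun := fun g => ⟨⟨((g : ↥(centralizer ({s} : Set K) ⊓ M)) : K), (mem_inf.1 g.1.2).2⟩,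
            congrArg Subtype.val g.2⟩
          invFun := fun g => ⟨⟨((g : M) : K), mem_inf.2 ⟨mem_centralizer_singleton_iff.2 (by
            obtain ⟨i, hi⟩ := mem_zpowers_iff.1 ((c.ker _).1 g.2)
            have hsn : Commute s n := c.commute s hsM
            rw [← hi]
            exact (hsn.zpow_right i).eq.symm), (g : M).2⟩⟩, Subtype.ext g.2⟩
          left_inv := fun _ => rfl
          right_inv := fun _ => rfl }
    have h := χ.ker.card_mul_index
    rw [Subgroup.index_ker, MonoidHom.range_eq_top.2 hsurj, Subgroup.card_top, hkχ,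
      (hm22.seven _ (himg s hs)).1] at h
    exact h.symm
  have hNM : ∀ (s : K), orderOf s = 7 →
      Nat.card ↥(normalizer ((zpowers s : Subgroup K) : Set K) ⊓ M) ≤ 63 := by
    intro s hs
    have hsM := odd_mem s hs
    let χ : ↥(normalizer ((zpowers s : Subgroup K) : Set K) ⊓ M) →*
        ↥(normalizer ((zpowers (φ ⟨s, hsM⟩) : Subgroup ↥Cfsg.Spor.M22) : Set ↥Cfsg.Spor.M22)) :=
      { toFun := fun g => ⟨φ ⟨g, (mem_inf.1 g.2).2⟩, mem_normalizer_zpowers.2 (by
          obtain ⟨i, hi⟩ := mem_zpowers_iff.1 ((mem_normalizer_zpowers).1 (mem_inf.1 g.2).1)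
          refine mem_zpowers_iff.2 ⟨i, ?_⟩
          rw [← map_zpow, ← map_inv, ← map_mul, ← map_mul]
          exact congrArg φ (Subtype.ext (by simpa using hi)))⟩
        map_one' := Subtype.ext (map_one φ)
        map_mul' := fun g g' => Subtype.ext (map_mul φ ⟨g, (mem_inf.1 g.2).2⟩ ⟨g', (mem_inf.1 g'.2).2⟩) }
    have hkχ : Nat.card χ.ker ≤ 3 := by
      rw [← hker]
      exact Nat.card_le_card_of_injective
        (fun g => (⟨⟨((g : ↥(normalizer ((zpowers s : Subgroup K) : Set K) ⊓ M)) : K), (mem_inf.1 g.1.2).2⟩,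
          congrArg Subtype.val g.2⟩ : φ.ker))
        fun g g' e => Subtype.ext (Subtype.ext (congrArg (fun w : φ.ker => ((w : M) : K)) e :))
    have h := χ.ker.card_mul_index
    rw [Subgroup.index_ker] at h
    have hr : Nat.card χ.range ≤ 21 :=
      le_of_le_of_eq (Subgroup.card_le_card_group χ.range) ((hm22.seven _ (himg s hs)).2)
    rw [← h]
    exact le_trans (Nat.mul_le_mul hkχ hr) (by norm_num)
  have half : ∀ L : Subgroup K, Nat.card L ≤ 2 * Nat.card ↥(L ⊓ M) := fun L => by
    have h := (M.subgroupOf L).card_mul_index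
    have hle : (M.subgroupOf L).index ≤ 2 := by
      rw [← Subgroup.relIndex]
      haveI := Subgroup.normal_of_index_eq_two hidx
      exact hidx ▸ Nat.le_of_dvd (by rw [hidx]; norm_num) (Subgroup.relIndex_dvd_index_of_normal M L)
    have e : Nat.card (M.subgroupOf L) = Nat.card ↥(L ⊓ M) := Nat.card_congr
      { toFun := fun g => ⟨((g : L) : K), mem_inf.2 ⟨(g : L).2, g.2⟩⟩
        invFun := fun g => ⟨⟨g, (mem_inf.1 g.2).1⟩, (mem_inf.1 g.2).2⟩
        left_inv := fun _ => rfl
        right_inv := fun _ => rfl }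
    rw [e] at h
    rw [← h, mul_comm]
    exact Nat.mul_le_mul_right _ hle
  -- transfer to the representative
  have hrep : ∀ s : K, orderOf s = 7 → ∃ g : K, g * s * g⁻¹ ∈ zpowers s₀ := by
    intro s hs
    have hfac : (Nat.card K).factorization 7 = 1 := by
      rw [R.cardK, Nat.factorization_def _ (by norm_num), show (2661120 : ℕ) = 7 ^ 1 * 380160 from rfl,
        padicValNat.mul (by norm_num) (by norm_num), padicValNat.prime_pow,
        padicValNat.eq_zero_of_not_dvd (by norm_num)]
    let P₀ : Sylow 7 K := Sylow.ofCard (zpowers s₀) (by rw [Nat.card_zpowers, hs7, hfac, pow_one])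
    let P : Sylow 7 K := Sylow.ofCard (zpowers s) (by rw [Nat.card_zpowers, hs, hfac, pow_one])
    obtain ⟨g, hg⟩ := MulAction.exists_smul_eq K P P₀
    refine ⟨g, ?_⟩
    have hmem : g * s * g⁻¹ ∈ (P₀ : Subgroup K) := by
      rw [← hg, Sylow.coe_subgroup_smul]
      exact Subgroup.smul_mem_pointwise_smul _ (MulAut.conj g) _ (show s ∈ (P : Subgroup K) from mem_zpowers s)
    exact hmem
  have hC0 : Nat.card (centralizer ({s₀} : Set K)) = 42 := by
    have h1 := half (centralizer ({s₀} : Set K))
    rw [hCM _ hs7] at h1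
    have h2 : 21 ∣ Nat.card (centralizer ({s₀} : Set K)) := hCM _ hs7 ▸ Subgroup.card_dvd_of_le inf_le_left
    obtain ⟨j, hj⟩ := h2
    have h3 : Nat.card (centralizer ({s₀} : Set K)) ≠ 21 := fun e => by
      have heq := Subgroup.eq_of_le_of_card_ge (inf_le_left : centralizer ({s₀} : Set K) ⊓ M ≤ _)
        (by rw [e, hCM _ hs7])
      have hm : x ∈ centralizer ({s₀} : Set K) := mem_centralizer_singleton_iff.2 hxs
      rw [← heq] at hm
      exact hxM (mem_inf.1 hm).2
    have hpos : 0 < Nat.card (centralizer ({s₀} : Set K)) := Nat.card_pos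
    omega
  have hN0 : Nat.card ↥(normalizer ((zpowers s₀ : Subgroup K) : Set K)) = 126 := by
    set L := normalizer ((zpowers s₀ : Subgroup K) : Set K) with hL
    have hCL : centralizer ({s₀} : Set K) ≤ L := by
      rw [centralizer_eq]; exact centralizer_le_normalizer _
    have h1 := half L
    have hkc : k * s₀ * k⁻¹ = s₀ * s₀ := by rw [hks, mul_inv_cancel_right]
    have hkL : k ∈ L := mem_normalizer_zpowers.2 (by rw [hkc]; exact mul_mem (mem_zpowers _) (mem_zpowers _))
    obtain ⟨j, hj⟩ := hC0 ▸ Subgroup.card_dvd_of_le hCL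
    have hj3 : j ≤ 3 := by have := hNM _ hs7; rw [← hL] at this; omega
    have h2 : j ≠ 1 := fun e => by
      have hkC : k ∈ centralizer ({s₀} : Set K) := by
        rw [Subgroup.eq_of_le_of_card_ge hCL (by rw [hC0, hj, e])]; exact hkL
      rw [mem_centralizer_singleton_iff, hks] at hkC
      exact hs1 (mul_eq_left.1 (mul_right_cancel hkC))
    have h3 : j ≠ 2 := fun e => by
      have hi : ((centralizer ({s₀} : Set K)).subgroupOf L).index = 2 := by
        have := ((centralizer ({s₀} : Set K)).subgroupOf L).card_mul_index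
        rw [Nat.card_congr (Subgroup.subgroupOfEquivOfLe hCL).toEquiv, hC0, hj, e] at this
        omega
      have hk2 : k * k * s₀ = s₀ * (k * k) :=
        mem_centralizer_singleton_iff.1 (Subgroup.mul_self_mem_of_index_two hi ⟨k, hkL⟩)
      have e4 : s₀ * s₀ * (s₀ * s₀) = s₀ := by
        have h9 : k * k * s₀ * (k * k)⁻¹ = s₀ := by rw [hk2, mul_inv_cancel_right]
        calc s₀ * s₀ * (s₀ * s₀) = k * s₀ * k⁻¹ * (k * s₀ * k⁻¹) := by rw [hkc]
          _ = k * (s₀ * s₀) * k⁻¹ := by group
          _ = k * (k * s₀ * k⁻¹) * k⁻¹ := by rw [hkc]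
          _ = k * k * s₀ * (k * k)⁻¹ := by group
          _ = s₀ := h9
      have h8 : s₀ ^ 3 = 1 := mul_right_cancel (b := s₀) (by
        rw [one_mul]; exact Eq.trans (by simp only [pow_succ, pow_zero, one_mul, mul_assoc]) e4)
      have := orderOf_dvd_of_pow_eq_one h8
      rw [hs7] at this
      norm_num at this
    have hpos : 0 < Nat.card L := Nat.card_pos
    rcases Nat.lt_or_ge j 3 with hlt | hge
    · rcases j with _ | _ | _ | j <;> omega
    · rw [hj, le_antisymm hj3 hge]
  refine ⟨fun s hs v hv => ?_, fun s hs => ?_, fun s hs => ?_⟩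
  · obtain ⟨g, hg⟩ := hrep s hs
    have hs' : orderOf (g * s * g⁻¹) = 7 :=
      (orderOf_injective (MulAut.conj g).toMonoidHom (MulAut.conj g).injective s).trans hs
    have hz := pow_eq_of_mem hs7 hs' hg
    obtain ⟨j, hj⟩ := mem_zpowers_iff.1 (hz ▸ mem_zpowers s₀ : s₀ ∈ zpowers (g * s * g⁻¹))
    have hfixg : ∀ i : ℤ, (g * s * g⁻¹) ^ i • (g • v) = g • v := fun i => by
      have : (g * s * g⁻¹) • (g • v) = g • v := by rw [mul_smul, mul_smul, inv_smul_smul, hv]
      exact Subgroup.zpow_mem (MulAction.stabilizer K (g • v)) this i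
    obtain ⟨y, hy, hyv⟩ := R.surj (g • v)
    have h0 : crd (Rigid.app matSeven y) = crd y := by
      rw [← hsA, hyv]
      conv_lhs => rw [← hj]
      exact hfixg j
    have happ := R.inj _ _ (Rigid.app_lt hsv y) hy h0
    have hf := List.all_eq_true.1 seven_fix y (List.mem_range.2 hy)
    rw [happ, bne_self_eq_false, Bool.false_or] at hf
    have hy0 : y = 0 := eq_of_beq hf
    rw [hy0, R.crd_zero] at hyv
    exact (smul_eq_zero_iff_eq g).1 hyv.symm
  · obtain ⟨g, hg⟩ := hrep s hs
    have hs' : orderOf (g * s * g⁻¹) = 7 :=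
      (orderOf_injective (MulAut.conj g).toMonoidHom (MulAut.conj g).injective s).trans hs
    rw [← CfsgLib.Invol.card_centralizer_of_isConj (x := s) (y := g * s * g⁻¹) (isConj_iff.2 ⟨g, rfl⟩),
      centralizer_eq, pow_eq_of_mem hs7 hs' hg, ← centralizer_eq, hC0]
  · obtain ⟨g, hg⟩ := hrep s hs
    have hs' : orderOf (g * s * g⁻¹) = 7 :=
      (orderOf_injective (MulAut.conj g).toMonoidHom (MulAut.conj g).injective s).trans hs
    rw [← hN0, ← pow_eq_of_mem hs7 hs' hg]
    exact Nat.card_congr ((MulAut.conj g).toEquiv.subtypeEquiv fun w => by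
      rw [mem_normalizer_zpowers, mem_normalizer_zpowers]
      show _ ↔ g * w * g⁻¹ * (g * s * g⁻¹) * (g * w * g⁻¹)⁻¹ ∈ zpowers (g * s * g⁻¹)
      rw [show g * w * g⁻¹ * (g * s * g⁻¹) * (g * w * g⁻¹)⁻¹ = g * (w * s * w⁻¹) * g⁻¹ by group]
      rw [show zpowers (g * s * g⁻¹) = (zpowers s).map (MulAut.conj g).toMonoidHom by
        rw [MonoidHom.map_zpowers]; rfl]
      exact (Subgroup.mem_map_iff_mem (f := (MulAut.conj g).toMonoidHom) (MulAut.conj g).injective).symm)

end CfsgLib.JankoFour.Seven
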