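import Cfsg.Agent.Lib.JankoFour.Model
import Cfsg.Agent.Lib.JankoFour.Seven.RigSeven

/-!
# The centraliser and normaliser of a subgroup of order seven in the centraliser of the involution
-/

set_option autoImplicit false
set_option linter.unusedSectionVars false

namespace CfsgLib.JankoFour.Seven

open Subgroup

/-- Two lifts of an element of order seven are conjugate by the kernel. -/
theorem exists_ker_conj {N K : Type*} [Group N] [Finite N] [Group K] (ψ : N →* K)
    (hk : ¬ 7 ∣ Nat.card ψ.ker) {s u : N} (hs : orderOf s = 7) (hu : orderOf u = 7) (hs' : orderOf (ψ s) = 7)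
    (h : ψ u = ψ s) : ∃ q : N, ψ q = 1 ∧ q * u * q⁻¹ = s := by
  haveI : Fact (Nat.Prime 7) := ⟨by norm_num⟩
  let L : Subgroup N := (zpowers (ψ s)).comap ψ
  have hsL : s ∈ L := mem_zpowers (ψ s)
  have huL : u ∈ L := by
    show ψ u ∈ zpowers (ψ s)
    rw [h]; exact mem_zpowers _
  let f : L →* zpowers (ψ s) :=
    { toFun := fun l => ⟨ψ (l : N), l.2⟩
      map_one' := Subtype.ext (map_one ψ)
      map_mul' := fun x y => Subtype.ext (map_mul ψ (x : N) (y : N)) }
  have hf : Function.Surjective f := fun x => by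
    obtain ⟨i, hi⟩ := mem_zpowers_iff.1 x.2
    exact ⟨⟨s ^ i, zpow_mem hsL i⟩, Subtype.ext (by show ψ (s ^ i) = _; rw [map_zpow, hi])⟩
  have hker : Nat.card f.ker = Nat.card ψ.ker := Nat.card_congr
    { toFun := fun x => ⟨((x : L) : N), congrArg Subtype.val x.2⟩
      invFun := fun x => ⟨⟨(x : N), by show ψ (x : N) ∈ zpowers (ψ s); rw [show ψ x = 1 from x.2]; exact one_mem _⟩,
        Subtype.ext x.2⟩
      left_inv := fun _ => rfl
      right_inv := fun _ => rfl }
  have hcard : Nat.card L = Nat.card ψ.ker * 7 := by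
    rw [← f.ker.card_mul_index, Subgroup.index_ker, MonoidHom.range_eq_top.2 hf, Subgroup.card_top, hker,
      Nat.card_zpowers, hs']
  have hfac : (Nat.card L).factorization 7 = 1 := by
    rw [hcard, Nat.factorization_mul (by exact Nat.card_pos.ne') (by norm_num), Finsupp.add_apply,
      Nat.factorization_eq_zero_of_not_dvd hk, zero_add, Nat.Prime.factorization_self (by norm_num)]
  have mk : ∀ w : L, orderOf w = 7 → ∃ P : Sylow 7 L, (P : Subgroup L) = zpowers w := fun w hw =>
    ⟨Sylow.ofCard (zpowers w) (by rw [Nat.card_zpowers, hw, hfac, pow_one]), rfl⟩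
  obtain ⟨P, hP⟩ := mk ⟨s, hsL⟩ (by rw [Subgroup.orderOf_mk, hs])
  obtain ⟨R, hR⟩ := mk ⟨u, huL⟩ (by rw [Subgroup.orderOf_mk, hu])
  obtain ⟨l, hl⟩ := MulAction.exists_smul_eq L R P
  have hm : l * ⟨u, huL⟩ * l⁻¹ ∈ zpowers (⟨s, hsL⟩ : L) := by
    rw [← hP, ← hl, Sylow.coe_subgroup_smul]
    exact Subgroup.smul_mem_pointwise_smul _ (MulAut.conj l) _ (hR.symm ▸ mem_zpowers _)
  obtain ⟨j, hj⟩ := mem_zpowers_iff.1 hm
  obtain ⟨i, hi⟩ := mem_zpowers_iff.1 (l.2 : ψ (l : N) ∈ zpowers (ψ s))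
  have hj' : s ^ j = (l : N) * u * (l : N)⁻¹ := by
    have := congrArg Subtype.val hj
    simpa using this
  have hj1 : (ψ s) ^ j = ψ s := by
    rw [← map_zpow, hj', map_mul, map_mul, map_inv, h, ← hi, ← zpow_add_one, ← zpow_neg, ← zpow_add,
      show i + 1 + -i = 1 by ring, zpow_one]
  have hj7 : s ^ j = s := by
    have hd : (7 : ℤ) ∣ j - 1 := by
      have h1 : (ψ s) ^ (j - 1) = 1 := by rw [zpow_sub_one, hj1, mul_inv_cancel]
      have h2 := orderOf_dvd_iff_zpow_eq_one.2 h1
      rwa [hs'] at h2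
    have h3 : s ^ (j - 1) = 1 := orderOf_dvd_iff_zpow_eq_one.1 (by rw [hs]; exact hd)
    rw [zpow_sub_one, mul_inv_eq_one] at h3
    exact h3
  rw [hj7] at hj'
  refine ⟨s ^ (-i) * (l : N), ?_, ?_⟩
  · rw [map_mul, map_zpow, ← hi, ← zpow_add, neg_add_cancel, zpow_zero]
  · calc s ^ (-i) * (l : N) * u * (s ^ (-i) * (l : N))⁻¹
        = s ^ (-i) * ((l : N) * u * (l : N)⁻¹) * (s ^ (-i))⁻¹ := by group
      _ = s ^ (-i) * s * (s ^ (-i))⁻¹ := by rw [← hj']
      _ = s := by group

variable {G : Type*} [Group G] [Finite G] {z : G} {Q : Subgroup (centralizer ({z} : Set G))} [Q.Normal]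
  {V : Type*} [AddCommGroup V] [Module (ZMod 2) V] [DistribMulAction ((centralizer ({z} : Set G)) ⧸ Q) V] [Finite V]
  {q : QuadraticForm (ZMod 2) V} {π : ↥Q → V} {n : (centralizer ({z} : Set G)) ⧸ Q}
  {M : Subgroup ((centralizer ({z} : Set G)) ⧸ Q)} {φ : ↥M →* ↥Cfsg.Spor.M22}

theorem h_side (m : Model z Q q π n M φ) (F : SevenFacts V ((centralizer ({z} : Set G)) ⧸ Q))
    {S : Subgroup G} (hS : Nat.card S = 7) (hle : S ≤ centralizer ({z} : Set G)) :
    Nat.card ↥(centralizer ({z} : Set G) ⊓ centralizer (S : Set G)) = 84 ∧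
      Nat.card ↥(centralizer ({z} : Set G) ⊓ normalizer (S : Set G)) = 252 := by
  classical
  haveI : Fact (Nat.Prime 7) := ⟨by norm_num⟩
  obtain ⟨⟨s, hsS⟩, hs0⟩ := exists_prime_orderOf_dvd_card' (G := S) 7 (by rw [hS])
  rw [Subgroup.orderOf_mk] at hs0
  have hSz : S = zpowers s := (Subgroup.eq_of_le_of_card_ge (zpowers_le.2 hsS)
    (by rw [hS, Nat.card_zpowers, hs0])).symm
  set sH : ↥(centralizer ({z} : Set G)) := ⟨s, hle hsS⟩ with hsH
  have hsH7 : orderOf sH = 7 := by rw [hsH, Subgroup.orderOf_mk, hs0]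
  set ψ := QuotientGroup.mk' Q with hψ
  have hkerQ : ψ.ker = Q := QuotientGroup.ker_mk' Q
  have hk7 : ¬ 7 ∣ Nat.card ψ.ker := by rw [hkerQ, m.cardQ]; norm_num
  have hbar : orderOf (ψ sH) = 7 := by
    refine orderOf_eq_prime (by rw [← map_pow, ← hsH7, pow_orderOf_eq_one, map_one]) fun e => ?_
    have h := Subgroup.orderOf_dvd_natCard _ (show sH ∈ ψ.ker from e)
    rw [hkerQ, m.cardQ, hsH7] at h
    norm_num at h
  -- `z` is in the kernel
  obtain ⟨x₀, hx₀⟩ : ∃ x : ↥Q, ((x : ↥(centralizer ({z} : Set G))) : G) = z := by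
    by_contra hc
    simp only [not_exists] at hc
    have hinj : Function.Injective π := fun a b e => by
      rcases m.pi_eq e with h | h
      · exact (Subtype.ext (Subtype.ext h)).symm
      · exfalso
        apply hc (a⁻¹ * b)
        simp only [Subgroup.coe_mul, Subgroup.coe_inv, h, inv_mul_cancel_left]
    have h := Nat.card_le_card_of_injective π hinj
    rw [m.cardQ, m.core.cardV] at h
    norm_num at h
  have hz1 : z ≠ 1 := fun e => by
    have := m.ordz; rw [e, orderOf_one] at this; omega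
  -- the fixed elements of `Q`
  have hfix : ∀ x : ↥(centralizer ({z} : Set G)), x ∈ Q → x * sH = sH * x → (x : G) = 1 ∨ (x : G) = z := by
    intro x hx hc
    refine (m.ker ⟨x, hx⟩).1 (F.fix _ hbar _ ?_)
    rw [hψ, QuotientGroup.mk'_apply, m.equiv]
    congr 1
    refine Subtype.ext ?_
    show sH * x * sH⁻¹ = x
    rw [← hc, mul_inv_cancel_right]
  have memC : ∀ g : G, g ∈ centralizer (S : Set G) ↔ g * s = s * g := fun g => by
    rw [hSz]
    refine ⟨fun h => (mem_centralizer_iff.1 h s (mem_zpowers s)).symm, fun h => mem_centralizer_iff.2 ?_⟩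
    intro x hx
    obtain ⟨i, rfl⟩ := mem_zpowers_iff.1 hx
    exact ((show Commute g s from h).zpow_right i).eq.symm
  have count : ∀ (L : Subgroup ↥(centralizer ({z} : Set G))) (X : Subgroup (↥(centralizer ({z} : Set G)) ⧸ Q)), L.map ψ = X →
      (∀ x : ↥(centralizer ({z} : Set G)), x ∈ Q → x ∈ L → x * sH = sH * x) → (∀ x : ↥(centralizer ({z} : Set G)), x * sH = sH * x → x ∈ L) →
      Nat.card L = 2 * Nat.card X := by
    intro L X hX h1 h2
    let χ : L →* X := (ψ.comp L.subtype).codRestrict X fun g => hX ▸ ⟨g, g.2, rfl⟩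
    have hsurj : Function.Surjective χ := by
      rintro ⟨y, hy⟩
      rw [← hX] at hy
      obtain ⟨g, hg, rfl⟩ := hy
      exact ⟨⟨g, hg⟩, rfl⟩
    have hk : Nat.card χ.ker = 2 := by
      have hzmem : (x₀ : ↥(centralizer ({z} : Set G))) ∈ L := h2 _ (Subtype.ext (by
        show ((x₀ : ↥(centralizer ({z} : Set G))) : G) * s = s * ((x₀ : ↥(centralizer ({z} : Set G))) : G)
        rw [hx₀]; exact (mem_centralizer_singleton_iff.1 (hle hsS)).symm))
      have himg : (fun g : L => ((g : ↥(centralizer ({z} : Set G))) : G)) '' (χ.ker : Set L) = ({1, z} : Set G) := by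
        ext y
        constructor
        · rintro ⟨g, hg, rfl⟩
          have hgQ : (g : ↥(centralizer ({z} : Set G))) ∈ Q := hkerQ ▸ (congrArg Subtype.val hg : ψ (g : ↥(centralizer ({z} : Set G))) = 1)
          exact hfix _ hgQ (h1 _ hgQ g.2)
        · rintro (rfl | rfl)
          · exact ⟨1, one_mem _, rfl⟩
          · exact ⟨⟨x₀, hzmem⟩, Subtype.ext ((QuotientGroup.eq_one_iff _).2 x₀.2), hx₀⟩
      have h := congrArg Set.ncard himg
      rw [Set.ncard_image_of_injective _ (fun a b e => Subtype.ext (Subtype.ext e)), ← Nat.card_coe_set_eq,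
        Set.ncard_pair hz1.symm] at h
      exact h
    have h := χ.ker.card_mul_index
    rw [Subgroup.index_ker, MonoidHom.range_eq_top.2 hsurj, Subgroup.card_top, hk] at h
    exact h.symm
  have sub : ∀ L : Subgroup G, Nat.card (L.subgroupOf (centralizer ({z} : Set G))) = Nat.card ↥((centralizer ({z} : Set G)) ⊓ L) := fun L => Nat.card_congr
    { toFun := fun g => ⟨((g : ↥(centralizer ({z} : Set G))) : G), mem_inf.2 ⟨(g : ↥(centralizer ({z} : Set G))).2, g.2⟩⟩
      invFun := fun g => ⟨⟨g, (mem_inf.1 g.2).1⟩, (mem_inf.1 g.2).2⟩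
      left_inv := fun _ => rfl
      right_inv := fun _ => rfl }
  constructor
  · rw [← sub, count _ (centralizer ({ψ sH} : Set (↥(centralizer ({z} : Set G)) ⧸ Q))) ?_ ?_ ?_, F.cent _ hbar]
    · refine le_antisymm ?_ fun y hy => ?_
      · rintro _ ⟨g, hg, rfl⟩
        refine mem_centralizer_singleton_iff.2 ?_
        rw [← map_mul, ← map_mul]
        exact congrArg ψ (Subtype.ext ((memC _).1 hg))
      · obtain ⟨g, rfl⟩ := QuotientGroup.mk'_surjective Q y
        obtain ⟨g', e1, e2⟩ := exists_lift_comm ψ hk7 hsH7 hbar g (mem_centralizer_singleton_iff.1 hy)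
        exact ⟨g', (memC _).2 (congrArg Subtype.val e2), e1⟩
    · exact fun x _ hx => Subtype.ext ((memC _).1 hx)
    · exact fun x hx => (memC _).2 (congrArg Subtype.val hx)
  · rw [← sub, count _ (normalizer ((zpowers (ψ sH) : Subgroup (↥(centralizer ({z} : Set G)) ⧸ Q)) : Set (↥(centralizer ({z} : Set G)) ⧸ Q))) ?_ ?_ ?_, F.norm _ hbar]
    · refine le_antisymm ?_ fun y hy => ?_
      · rintro _ ⟨g, hg, rfl⟩
        have h : (g : G) * s * (g : G)⁻¹ ∈ S := (mem_normalizer_iff.1 hg s).1 hsS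
        rw [hSz] at h
        obtain ⟨i, hi⟩ := mem_zpowers_iff.1 h
        refine mem_normalizer_zpowers.2 (mem_zpowers_iff.2 ⟨i, ?_⟩)
        rw [← map_zpow, ← map_inv, ← map_mul, ← map_mul]
        exact congrArg ψ (Subtype.ext (by simpa using hi))
      · obtain ⟨g, rfl⟩ := QuotientGroup.mk'_surjective Q y
        obtain ⟨i, hi⟩ := mem_zpowers_iff.1 (mem_normalizer_zpowers.1 hy)
        have hcj : orderOf (g * sH * g⁻¹) = 7 :=
          (orderOf_injective (MulAut.conj g).toMonoidHom (MulAut.conj g).injective sH).trans hsH7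
        have himg : ψ (g * sH * g⁻¹) = ψ (sH ^ i) := by rw [map_mul, map_mul, map_inv, map_zpow]; exact hi.symm
        have hb : orderOf (ψ (g * sH * g⁻¹)) = 7 := by
          rw [map_mul, map_mul, map_inv]
          exact (orderOf_injective (MulAut.conj (ψ g)).toMonoidHom (MulAut.conj (ψ g)).injective _).trans hbar
        have hu : orderOf (sH ^ i) = 7 := by
          refine orderOf_eq_prime ?_ fun e => ?_
          · rw [← zpow_natCast, ← zpow_mul, mul_comm, zpow_mul, zpow_natCast,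
              ← hsH7, pow_orderOf_eq_one, one_zpow]
          · rw [e, map_one] at himg
            rw [himg, orderOf_one] at hb
            omega
        obtain ⟨c, hc1, hc2⟩ := exists_ker_conj ψ hk7 hu hcj (himg ▸ hb) himg
        refine ⟨c * g, ?_, by rw [map_mul, hc1, one_mul]⟩
        show ((c * g : ↥(centralizer ({z} : Set G))) : G) ∈ normalizer (S : Set G)
        rw [hSz]
        refine mem_normalizer_zpowers.2 (mem_zpowers_iff.2 ⟨i, ?_⟩)
        have e : c * g * sH * (c * g)⁻¹ = sH ^ i := by rw [← hc2]; group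
        have := congrArg Subtype.val e
        simpa [mul_assoc] using this.symm
    · intro x hxQ hx
      have h : (x : G) * s * (x : G)⁻¹ ∈ S := (mem_normalizer_iff.1 hx s).1 hsS
      have hQc : x * sH * x⁻¹ * sH⁻¹ ∈ Q := by
        rw [show x * sH * x⁻¹ * sH⁻¹ = x * (sH * x⁻¹ * sH⁻¹) by group]
        exact mul_mem hxQ (Normal.conj_mem inferInstance _ (inv_mem hxQ) sH)
      have hSc : x * sH * x⁻¹ * sH⁻¹ ∈ S.subgroupOf (centralizer ({z} : Set G)) := mul_mem h (inv_mem hsS)
      have h1 := Subgroup.orderOf_dvd_natCard _ hQc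
      have h2 := Subgroup.orderOf_dvd_natCard _ hSc
      rw [m.cardQ] at h1
      rw [Nat.card_congr (Subgroup.subgroupOfEquivOfLe hle).toEquiv, hS] at h2
      have h3 : x * sH * x⁻¹ * sH⁻¹ = 1 := orderOf_eq_one_iff.1
        (Nat.eq_one_of_dvd_one (by simpa using Nat.dvd_gcd h1 h2))
      exact mul_inv_eq_iff_eq_mul.1 (mul_inv_eq_one.1 h3)
    · intro x hx
      exact centralizer_le_normalizer _ ((memC _).2 (congrArg Subtype.val hx))

end CfsgLib.JankoFour.Seven
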