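import Cfsg.Agent.Lib.JankoFour.Seven.HSide
import Cfsg.Agent.Lib.JankoFour.Centraliser.Local
import Cfsg.Agent.Lib.JankoFour.Thompson.Orbits
import Cfsg.Agent.Lib.JankoFour.Assembly
import Cfsg.Agent.Lib.JankoFour.Rigid.Exists
import Cfsg.Agent.Lib.JankoFour.Setting

/-!
# The local structure at a subgroup of order seven in a group of Janko-four type
-/

set_option autoImplicit false
set_option linter.unusedSectionVars false

namespace CfsgLib.JankoFour.Seven

open Subgroup
open CfsgLib.JankoFour.Thompson (Ctx Ns Zs)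
open Cfsg (GolayPt)

variable {G : Type*} [Group G] [Finite G]

/-- Transport along an automorphism. -/
theorem Local.map {S : Subgroup G} {z t t₁ v : G} (L : Local S z t t₁ v) (e : G ≃* G) :
    Local (S.map e.toMonoidHom) (e z) (e t) (e t₁) (e v) := by
  have hC : centralizer ((S.map e.toMonoidHom : Subgroup G) : Set G) =
      (centralizer (S : Set G)).map e.toMonoidHom := by
    ext x
    constructor
    · intro hx
      refine ⟨e.symm x, mem_centralizer_iff.2 fun s hs => ?_, by simp⟩
      apply e.injective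
      simpa using mem_centralizer_iff.1 hx (e s) ⟨s, hs, rfl⟩
    · rintro ⟨y, hy, rfl⟩
      refine mem_centralizer_iff.2 ?_
      rintro _ ⟨s, hs, rfl⟩
      show e s * e y = e y * e s
      rw [← map_mul, ← map_mul, mem_centralizer_iff.1 hy s hs]
  have memC : ∀ x, e x ∈ centralizer ((S.map e.toMonoidHom : Subgroup G) : Set G) ↔ x ∈ centralizer (S : Set G) :=
    fun x => by rw [hC]; exact Subgroup.mem_map_iff_mem (f := e.toMonoidHom) e.injective
  have hcard : ∀ x, Nat.card ↥(centralizer ({e x} : Set G) ⊓ centralizer ((S.map e.toMonoidHom : Subgroup G) : Set G)) =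
      Nat.card ↥(centralizer ({x} : Set G) ⊓ centralizer (S : Set G)) := fun x =>
    (Nat.card_congr (e.toEquiv.subtypeEquiv fun y => by
      simp only [mem_inf, mem_centralizer_singleton_iff, MulEquiv.toEquiv_eq_coe, EquivLike.coe_coe, memC,
        ← map_mul, e.apply_eq_iff_eq])).symm
  have hconj : ∀ x, ¬ IsConj z x → ¬ IsConj (e z) (e x) := fun x h h' =>
    h (by simpa using e.symm.toMonoidHom.map_isConj h')
  refine
    { cardS := ?_
      z_ord := by rw [MulEquiv.orderOf_eq, L.z_ord]
      z_mem := (memC _).2 L.z_mem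
      cz := by rw [hcard, L.cz]
      nz := ?_
      t_ord := by rw [MulEquiv.orderOf_eq, L.t_ord]
      t1_ord := by rw [MulEquiv.orderOf_eq, L.t1_ord]
      t_mem := (memC _).2 L.t_mem
      t1_mem := (memC _).2 L.t1_mem
      v_mem := (memC _).2 L.v_mem
      comm := by rw [← map_mul, ← map_mul, L.comm]
      ne := fun h => L.ne (e.injective h)
      ct := by rw [hcard, L.ct]
      ct1 := by rw [hcard, L.ct1]
      ct2 := by rw [← map_mul, hcard, L.ct2]
      nt := hconj _ L.nt
      nt1 := hconj _ L.nt1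
      nt2 := by rw [← map_mul]; exact hconj _ L.nt2
      vt := by rw [← map_mul, ← map_mul, L.vt]
      vt1 := fun h => L.vt1 (e.injective (by rw [map_mul, map_mul, h])) }
  · exact (Subgroup.card_map_of_injective e.injective).trans L.cardS
  · rw [← L.nz]
    refine (Nat.card_congr (e.toEquiv.subtypeEquiv fun y => ?_)).symm
    have hN : e y ∈ normalizer ((S.map e.toMonoidHom : Subgroup G) : Set G) ↔ y ∈ normalizer (S : Set G) := by
      have hm : ∀ w, e w ∈ S.map e.toMonoidHom ↔ w ∈ S := fun w =>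
        Subgroup.mem_map_iff_mem (f := e.toMonoidHom) e.injective
      simp only [mem_normalizer_iff]
      constructor
      · intro h w
        rw [← hm, ← hm (y * w * y⁻¹), map_mul, map_mul, map_inv]
        exact h (e w)
      · intro h w
        obtain ⟨w, rfl⟩ := e.surjective w
        rw [← map_inv, ← map_mul, ← map_mul, hm, hm]
        exact h w
    simp only [mem_inf, mem_centralizer_singleton_iff, MulEquiv.toEquiv_eq_coe, EquivLike.coe_coe, hN,
      ← map_mul, e.apply_eq_iff_eq]

section Model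

variable {z : G} {Q : Subgroup (centralizer ({z} : Set G))} [Q.Normal] {V : Type*} [AddCommGroup V]
  [Module (ZMod 2) V] [DistribMulAction ((centralizer ({z} : Set G)) ⧸ Q) V] [Finite V]
  {q : QuadraticForm (ZMod 2) V} {π : ↥Q → V} {n : (centralizer ({z} : Set G)) ⧸ Q}
  {M : Subgroup ((centralizer ({z} : Set G)) ⧸ Q)} {φ : ↥M →* ↥Cfsg.Spor.M22}
  {s : V} {A : Subgroup G} {Ab : Subgroup ((centralizer ({z} : Set G)) ⧸ Q)}

theorem exists_labelled (c : Ctx Q q π n M φ s A Ab) : ∃ f ψ, Labelled z A f ψ := by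
  obtain ⟨f, ψ, F⟩ := c.exists_frame
  have hker : Nat.card ψ.ker = 2 ^ 11 := by
    rw [← F.card]
    exact Nat.card_congr
      { toFun := fun m => ⟨((m : normalizer (A : Set G)) : G), (F.ker _).1 m.2⟩
        invFun := fun x => ⟨⟨x, Subgroup.le_normalizer x.2⟩, (F.ker _).2 x.2⟩
        left_inv := fun _ => rfl
        right_inv := fun _ => rfl }
  have hrange : ψ.range = Cfsg.M24 := by
    refine eq_of_le_of_card_ge F.range ?_
    have h := ψ.ker.card_mul_index
    rw [Subgroup.index_ker, hker, ← c.orbit_stab, c.Zs_facts.1] at h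
    rw [CfsgLib.Golay.card_M24]
    omega
  refine ⟨f, ψ, ⟨F.elem, F.card, F.mem, F.pair, F.cover, F.inj, F.act, F.ker, hrange,
    fun x hx hx1 hxz => F.centralizer_le hx hx1 hxz, fun x hx hxz h7 => ?_⟩⟩
  obtain ⟨m, hm, rfl⟩ : ∃ m ∈ normalizer (A : Set G), m * z * m⁻¹ = x :=
    (Set.ext_iff.1 (orbit_Zs c) x).2 ⟨hx, hxz⟩
  have e : Nat.card ↥(normalizer (A : Set G) ⊓ centralizer ({m * z * m⁻¹} : Set G)) =
      Nat.card ↥(normalizer (A : Set G) ⊓ centralizer ({z} : Set G)) :=
    (Nat.card_congr ((MulAut.conj m).toEquiv.subtypeEquiv fun y => by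
      show _ ↔ m * y * m⁻¹ ∈ normalizer (A : Set G) ⊓ centralizer ({m * z * m⁻¹} : Set G)
      rw [mem_inf, mem_inf, mem_centralizer_singleton_iff, mem_centralizer_singleton_iff]
      refine and_congr ⟨fun h => mul_mem (mul_mem hm h) (inv_mem hm), fun h => ?_⟩ ?_
      · have := mul_mem (mul_mem (inv_mem hm) h) hm
        simpa [mul_assoc] using this
      · rw [show m * y * m⁻¹ * (m * z * m⁻¹) = m * (y * z) * m⁻¹ by group,
          show m * z * m⁻¹ * (m * y * m⁻¹) = m * (z * y) * m⁻¹ by group, mul_left_inj, mul_right_inj])).symm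
  rw [e, c.NH_card] at h7
  norm_num at h7

/-- The centraliser of `z` has Sylow subgroups of order seven. -/
theorem sylow_seven_conj (m : Model z Q q π n M φ) (hK : Nat.card ((centralizer ({z} : Set G)) ⧸ Q) = 2661120)
    {S T : Subgroup G} (hS : Nat.card S = 7) (hT : Nat.card T = 7) (hSz : S ≤ centralizer ({z} : Set G))
    (hTz : T ≤ centralizer ({z} : Set G)) : ∃ g : G, T.map (MulAut.conj g).toMonoidHom = S := by
  haveI : Fact (Nat.Prime 7) := ⟨by norm_num⟩
  have hfac : (Nat.card (centralizer ({z} : Set G))).factorization 7 = 1 := by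
    rw [Subgroup.card_eq_card_quotient_mul_card_subgroup Q, hK, m.cardQ, Nat.factorization_def _ (by norm_num),
      show (2661120 : ℕ) * 2 ^ (2 * 6 + 1) = 7 ^ 1 * (380160 * 2 ^ 13) from rfl,
      padicValNat.mul (by norm_num) (by norm_num), padicValNat.prime_pow,
      padicValNat.eq_zero_of_not_dvd (by norm_num)]
  let P : Sylow 7 (centralizer ({z} : Set G)) := Sylow.ofCard (S.subgroupOf _)
    (by rw [Nat.card_congr (Subgroup.subgroupOfEquivOfLe hSz).toEquiv, hS, hfac, pow_one])
  let R : Sylow 7 (centralizer ({z} : Set G)) := Sylow.ofCard (T.subgroupOf _)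
    (by rw [Nat.card_congr (Subgroup.subgroupOfEquivOfLe hTz).toEquiv, hT, hfac, pow_one])
  obtain ⟨g, hg⟩ := MulAction.exists_smul_eq (centralizer ({z} : Set G)) R P
  refine ⟨(g : G), Subgroup.eq_of_le_of_card_ge ?_ (by
    rw [hS, Subgroup.card_map_of_injective (MulEquiv.injective _), hT])⟩
  rintro _ ⟨x, hx, rfl⟩
  have hmem : g * ⟨x, hTz hx⟩ * g⁻¹ ∈ (P : Subgroup (centralizer ({z} : Set G))) := by
    rw [← hg, Sylow.coe_subgroup_smul]
    exact Subgroup.smul_mem_pointwise_smul _ (MulAut.conj g) _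
      (show (⟨x, hTz hx⟩ : centralizer ({z} : Set G)) ∈ (R : Subgroup _) from hx)
  exact hmem

/-- The statement, from the model. -/
theorem seven_structure (m : Model z Q q π n M φ) {p : G} (hp : orderOf p = 3)
    (hN : centralizer ({p} : Set G) ≤ centralizer ({z} : Set G))
    (hone : ∀ x y : G, orderOf x = 3 → orderOf y = 3 → IsConj x y)
    {S : Subgroup G} (hS : Nat.card S = 7) (hSz : S ≤ centralizer ({z} : Set G)) :
    ¬ (49 ∣ Nat.card G) ∧
    (∃ I : Subgroup G, Cfsg.IsInternalDirectProduct S I (centralizer (S : Set G)) ∧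
      Nonempty (↥I ≃* Equiv.Perm (Fin 5))) ∧
    Nat.card ↥(normalizer (S : Set G)) = 3 * Nat.card ↥(centralizer (S : Set G)) ∧
    Nat.card ↥(normalizer (S : Set G)) = 2 ^ 3 * 3 ^ 2 * 5 * 7 := by
  obtain ⟨n', crd, a, f, u, t₀, -, R⟩ := m.core.exists_rig
  have F7 := Rig.sevenFacts R
  obtain ⟨s, A, Ab, c, -, -⟩ := Thompson.exists_conjugate m
  obtain ⟨fl, ψ, L⟩ := exists_labelled c
  obtain ⟨S', t, t₁, v, y, D⟩ := L.exists_found
  obtain ⟨g, hg⟩ := isConj_iff.1 (hone p y hp D.y_ord)
  set e : G ≃* G := MulAut.conj g with he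
  have hS'' : S'.map e.symm.toMonoidHom ≤ centralizer ({z} : Set G) := by
    rintro _ ⟨x, hx, rfl⟩
    refine hN (mem_centralizer_singleton_iff.2 (e.injective ?_))
    rw [map_mul, map_mul]
    show e (e.symm x) * (g * p * g⁻¹) = g * p * g⁻¹ * e (e.symm x)
    rw [hg, e.apply_symm_apply]
    exact mem_centralizer_iff.1 D.y_mem x hx
  have hS''7 : Nat.card (S'.map e.symm.toMonoidHom) = 7 :=
    (Subgroup.card_map_of_injective e.symm.injective).trans D.cardS
  obtain ⟨h84, h252⟩ := h_side m F7 hS''7 hS''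
  have memC : ∀ x, e.symm x ∈ centralizer ((S'.map e.symm.toMonoidHom : Subgroup G) : Set G) ↔
      x ∈ centralizer (S' : Set G) := fun x => by
    simp only [mem_centralizer_iff]
    constructor
    · intro h w hw
      apply e.symm.injective
      simpa using h (e.symm w) ⟨w, hw, rfl⟩
    · rintro h _ ⟨w, hw, rfl⟩
      show e.symm w * e.symm x = e.symm x * e.symm w
      rw [← map_mul, ← map_mul, h w hw]
  have memN : ∀ x, e.symm x ∈ normalizer ((S'.map e.symm.toMonoidHom : Subgroup G) : Set G) ↔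
      x ∈ normalizer (S' : Set G) := fun x => by
    have hm : ∀ w, e.symm w ∈ S'.map e.symm.toMonoidHom ↔ w ∈ S' := fun w =>
      Subgroup.mem_map_iff_mem (f := e.symm.toMonoidHom) e.symm.injective
    simp only [mem_normalizer_iff]
    constructor
    · intro h w
      rw [← hm, ← hm (x * w * x⁻¹), map_mul, map_mul, map_inv]
      exact h (e.symm w)
    · intro h w
      obtain ⟨w, rfl⟩ := e.symm.surjective w
      rw [← map_inv, ← map_mul, ← map_mul, hm, hm]
      exact h w
  have hcomm : ∀ x, e.symm x * z = z * e.symm x ↔ x * e z = e z * x := fun x => by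
    rw [← e.apply_eq_iff_eq, map_mul, map_mul, e.apply_symm_apply]
  have hzmem : e z ∈ centralizer (S' : Set G) := mem_centralizer_iff.2 fun w hw => by
    have h := mem_centralizer_singleton_iff.1 (hS'' ⟨w, hw, rfl⟩)
    exact (hcomm w).1 h
  have hnc : ∀ x, ¬ IsConj z x → ¬ IsConj (e z) x := fun x h h' =>
    h ((isConj_iff.2 ⟨g, rfl⟩ : IsConj z (e z)).trans h')
  have L' : Local S' (e z) t t₁ v :=
    { cardS := D.cardS
      z_ord := by rw [MulEquiv.orderOf_eq, m.ordz]
      z_mem := hzmem
      cz := by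
        rw [← h84]
        exact Nat.card_congr (e.symm.toEquiv.subtypeEquiv fun x => by
          simp only [mem_inf, mem_centralizer_singleton_iff, MulEquiv.toEquiv_eq_coe, EquivLike.coe_coe, memC,
            hcomm])
      nz := by
        rw [← h252]
        exact Nat.card_congr (e.symm.toEquiv.subtypeEquiv fun x => by
          simp only [mem_inf, mem_centralizer_singleton_iff, MulEquiv.toEquiv_eq_coe, EquivLike.coe_coe, memN,
            hcomm])
      t_ord := D.t_ord
      t1_ord := D.t1_ord
      t_mem := D.t_mem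
      t1_mem := D.t1_mem
      v_mem := D.v_mem
      comm := D.comm
      ne := D.ne
      ct := D.ct
      ct1 := D.ct1
      ct2 := D.ct2
      nt := hnc _ D.nt
      nt1 := hnc _ D.nt1
      nt2 := hnc _ D.nt2
      vt := D.vt
      vt1 := D.vt1 }
  obtain ⟨k, hk⟩ := sylow_seven_conj m R.cardK hS hS''7 hSz hS''
  have L'' := (L'.map e.symm).map (MulAut.conj k)
  rw [hk] at L''
  exact L''.conclusion

end Model

end CfsgLib.JankoFour.Seven
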