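import Cfsg.Agent.S0213
import Cfsg.Agent.Lib.Invol.Counting

/-!
# Two classes of involutions with centralisers of orders twelve and eight: the order

`Data z t t₁ v` : `z` has centraliser of order 12, the three involutions of the four group `⟨t, t₁⟩` have
centralisers of order 8 and are not conjugate to `z`, and `v` centralises `t` but not `t₁`. Then the group has
order 120.
-/

set_option autoImplicit false
set_option linter.unusedSectionVars false

namespace CfsgLib.JankoFour.Seven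

open Subgroup

variable {I : Type*} [Group I]

/-- The input. -/
structure Data (z t t₁ v : I) : Prop where
  z_ord : orderOf z = 2
  t_ord : orderOf t = 2
  t1_ord : orderOf t₁ = 2
  comm : t * t₁ = t₁ * t
  ne : t ≠ t₁
  cz : Nat.card (centralizer ({z} : Set I)) = 12
  ct : Nat.card (centralizer ({t} : Set I)) = 8
  ct1 : Nat.card (centralizer ({t₁} : Set I)) = 8
  ct2 : Nat.card (centralizer ({t * t₁} : Set I)) = 8
  nt : ¬ IsConj z t
  nt1 : ¬ IsConj z t₁
  nt2 : ¬ IsConj z (t * t₁)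
  vt : v * t = t * v
  vt1 : v * t₁ ≠ t₁ * v

theorem sq_of_ord {x : I} (h : orderOf x = 2) : x * x = 1 := by
  have := pow_orderOf_eq_one x
  rwa [h, pow_two] at this

theorem ne_one_of_ord {x : I} (h : orderOf x = 2) : x ≠ 1 := fun e => by
  rw [e, orderOf_one] at h; omega

theorem ord_two {x : I} (h : x * x = 1) (h1 : x ≠ 1) : orderOf x = 2 :=
  orderOf_eq_prime (by rw [pow_two, h]) h1

theorem mem_zpowers_invol {w x : I} (hw : w * w = 1) (hx : x ∈ zpowers w) : x = 1 ∨ x = w := by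
  obtain ⟨k, rfl⟩ := mem_zpowers_iff.1 hx
  have h2 : w ^ (2 : ℤ) = 1 := by rw [zpow_two]; exact hw
  rcases Int.even_or_odd' k with ⟨j, rfl | rfl⟩
  · exact Or.inl (by rw [zpow_mul, h2, one_zpow])
  · exact Or.inr (by rw [zpow_add, zpow_mul, h2, one_zpow, one_mul, zpow_one])

theorem pair_comm {u v w : I} (hu : u * u = 1) (hv : v * v = 1) (hw : w * w = 1)
    (h : w ∈ zpowers (u * v)) : u * w = w * u ∧ v * w = w * v := by
  obtain ⟨n, hn⟩ := mem_zpowers_iff.1 h
  have hi : w⁻¹ = w := inv_eq_of_mul_eq_one_right hw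
  have h1 : u * w * u⁻¹ = w⁻¹ := by
    rw [← hn, ← conj_zpow, show u * (u * v) * u⁻¹ = (u * v)⁻¹ by
      rw [← mul_assoc, hu, one_mul, _root_.mul_inv_rev, inv_eq_of_mul_eq_one_right hv], inv_zpow]
  have h2 : v * w * v⁻¹ = w⁻¹ := by
    rw [← hn, ← conj_zpow, show v * (u * v) * v⁻¹ = (u * v)⁻¹ by
      rw [_root_.mul_inv_rev, inv_eq_of_mul_eq_one_right hu, inv_eq_of_mul_eq_one_right hv, mul_assoc,
        mul_assoc u, hv, mul_one], inv_zpow]
  rw [hi] at h1 h2
  exact ⟨mul_inv_eq_iff_eq_mul.1 h1, mul_inv_eq_iff_eq_mul.1 h2⟩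

theorem isConj_sq {a b : I} (h : IsConj a b) (ha : a * a = 1) : b * b = 1 := by
  obtain ⟨g, rfl⟩ := isConj_iff.1 h
  rw [show g * a * g⁻¹ * (g * a * g⁻¹) = g * (a * a) * g⁻¹ by group, ha]; group

theorem mem_cent {a x : I} : a ∈ centralizer ({x} : Set I) ↔ a * x = x * a := mem_centralizer_singleton_iff

namespace Data

variable {z t t₁ v : I} (d : Data z t t₁ v)
include d

theorem tt : t * t = 1 := sq_of_ord d.t_ord
theorem t1t1 : t₁ * t₁ = 1 := sq_of_ord d.t1_ord
theorem t_ne : t ≠ 1 := ne_one_of_ord d.t_ord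
theorem t1_ne : t₁ ≠ 1 := ne_one_of_ord d.t1_ord

theorem tt1_ne : t * t₁ ≠ 1 := fun h => d.ne (mul_right_cancel (h.trans d.t1t1.symm))

theorem v_notV : v ≠ 1 ∧ v ≠ t ∧ v ≠ t₁ ∧ v ≠ t * t₁ := by
  refine ⟨?_, ?_, ?_, ?_⟩ <;> intro e <;> apply d.vt1 <;> rw [e]
  · simp
  · exact d.comm
  · rw [mul_assoc, d.t1t1, mul_one, ← mul_assoc, ← d.comm, mul_assoc, d.t1t1, mul_one]

theorem t_mem : t ∈ centralizer ({t} : Set I) := mem_cent.2 rfl
theorem t1_mem : t₁ ∈ centralizer ({t} : Set I) := mem_cent.2 d.comm.symm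
theorem v_mem : v ∈ centralizer ({t} : Set I) := mem_cent.2 d.vt

/-- The eight elements of the centraliser of `t`. -/
theorem mem_T [Finite I] {a : I} (ha : a * t = t * a) : a = 1 ∨ a = t ∨ a = t₁ ∨ a = t * t₁ ∨
    a = v ∨ a = v * t ∨ a = v * t₁ ∨ a = v * (t * t₁) := by
  classical
  obtain ⟨h1, h2, h3, h4⟩ := d.v_notV
  let f : Fin 8 → I := ![1, t, t₁, t * t₁, v, v * t, v * t₁, v * (t * t₁)]
  have ht := d.t_ne
  have h1' := d.t1_ne
  have htt := d.tt1_ne
  have hne := d.ne
  have hi : t⁻¹ = t := inv_eq_of_mul_eq_one_right d.tt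
  have hi1 : t₁⁻¹ = t₁ := inv_eq_of_mul_eq_one_right d.t1t1
  have hinj : Function.Injective f := by
    have e1 : t * (t * t₁) = t₁ := by rw [← mul_assoc, d.tt, one_mul]
    have e2 : t₁ * (t * t₁) = t := by rw [d.comm, ← mul_assoc, d.t1t1, one_mul]
    have hv : ∀ x y : I, v * x = y → v = y * x⁻¹ := fun x y h => eq_mul_inv_of_mul_eq h
    have hV : ∀ x y : I, (x = 1 ∨ x = t ∨ x = t₁ ∨ x = t * t₁) → (y = 1 ∨ y = t ∨ y = t₁ ∨ y = t * t₁) →
        v * x ≠ y := by
      intro x y hx hy e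
      have e' := hv x y e
      rcases hx with rfl | rfl | rfl | rfl <;> rcases hy with rfl | rfl | rfl | rfl <;>
        simp only [_root_.mul_inv_rev, inv_one, mul_one, one_mul, hi, hi1, d.tt, d.t1t1, ← d.comm, e1, e2,
          mul_assoc] at e' <;>
        first | exact h1 e' | exact h2 e' | exact h3 e' | exact h4 e'
    intro i j hij
    fin_cases i <;> fin_cases j <;> simp [f] at hij ⊢ <;>
      first
        | exact absurd hij.symm ht | exact absurd hij ht
        | exact absurd hij.symm h1' | exact absurd hij h1'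
        | exact absurd hij.symm htt | exact absurd hij htt
        | exact absurd hij hne | exact absurd hij.symm hne
        | exact absurd hij h1 | exact absurd hij.symm h1
        | exact absurd hij h2 | exact absurd hij.symm h2
        | exact absurd hij h3 | exact absurd hij.symm h3
        | exact absurd hij h4 | exact absurd hij.symm h4
        | exact absurd hij (hV _ _ (by simp) (by simp))
        | exact absurd hij.symm (hV _ _ (by simp) (by simp))
  have hmem : ∀ i, f i ∈ centralizer ({t} : Set I) := by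
    intro i
    fin_cases i
    · exact one_mem _
    · exact d.t_mem
    · exact d.t1_mem
    · exact mul_mem d.t_mem d.t1_mem
    · exact d.v_mem
    · exact mul_mem d.v_mem d.t_mem
    · exact mul_mem d.v_mem d.t1_mem
    · exact mul_mem d.v_mem (mul_mem d.t_mem d.t1_mem)
  have hb : Function.Bijective (fun i => (⟨f i, hmem i⟩ : centralizer ({t} : Set I))) :=
    (Nat.bijective_iff_injective_and_card _).2
      ⟨fun i j h => hinj (congrArg Subtype.val h), by rw [d.ct, Nat.card_eq_fintype_card, Fintype.card_fin]⟩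
  obtain ⟨i, hi'⟩ := hb.2 ⟨a, mem_cent.2 ha⟩
  have : f i = a := congrArg Subtype.val hi'
  rw [← this]
  fin_cases i <;> simp [f]

/-- Conjugation by `v` exchanges `t₁` and `t t₁`. -/
theorem v_conj [Finite I] : v * t₁ = t * t₁ * v := by
  obtain ⟨h1, h2, h3, h4⟩ := d.v_notV
  have ha : v * t₁ * v⁻¹ * t = t * (v * t₁ * v⁻¹) :=
    mem_cent.1 (mul_mem (mul_mem d.v_mem d.t1_mem) (inv_mem d.v_mem))
  have key : ∀ a, v * t₁ * v⁻¹ = v * a → t₁ = a * v := fun a h => by
    rw [mul_assoc] at h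
    exact mul_inv_eq_iff_eq_mul.1 (mul_left_cancel h)
  have bad : ∀ a ∈ centralizer ({t} : Set I), (a = 1 ∨ a = t ∨ a = t₁ ∨ a = t * t₁) → v * t₁ * v⁻¹ ≠ v * a := by
    intro a _ ha h
    have e : v = a⁻¹ * t₁ := eq_inv_mul_of_mul_eq (key a h).symm
    rcases ha with rfl | rfl | rfl | rfl
    · rw [inv_one, one_mul] at e; exact h3 e
    · rw [inv_eq_of_mul_eq_one_right d.tt] at e; exact h4 e
    · rw [inv_mul_cancel] at e; exact h1 e
    · rw [_root_.mul_inv_rev, inv_eq_of_mul_eq_one_right d.tt, inv_eq_of_mul_eq_one_right d.t1t1, mul_assoc,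
        d.comm, ← mul_assoc, d.t1t1, one_mul] at e
      exact h2 e
  rcases d.mem_T ha with e | e | e | e | e | e | e | e
  · exact absurd (mul_inv_eq_iff_eq_mul.1 e) (by rw [one_mul]; exact fun e => d.t1_ne (mul_eq_left.1 e))
  · exact absurd (mul_left_cancel ((mul_inv_eq_iff_eq_mul.1 e).trans d.vt.symm)) d.ne.symm
  · exact absurd (mul_inv_eq_iff_eq_mul.1 e) d.vt1
  · exact mul_inv_eq_iff_eq_mul.1 e
  · exact absurd (e.trans (mul_one v).symm) (bad 1 (one_mem _) (.inl rfl))
  · exact absurd e (bad t d.t_mem (.inr (.inl rfl)))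
  · exact absurd e (bad t₁ d.t1_mem (.inr (.inr (.inl rfl))))
  · exact absurd e (bad _ (mul_mem d.t_mem d.t1_mem) (.inr (.inr (.inr rfl))))

theorem t1_v [Finite I] : t₁ * v = v * (t * t₁) := by
  have h := d.v_conj
  calc t₁ * v = t * (t * t₁ * v) := by rw [← mul_assoc, ← mul_assoc, d.tt, one_mul]
    _ = t * (v * t₁) := by rw [h]
    _ = v * (t * t₁) := by rw [← mul_assoc, ← d.vt, mul_assoc]

theorem vt1_sq [Finite I] : v * t₁ * (v * t₁) = v * v * t := by
  calc v * t₁ * (v * t₁) = v * (t₁ * v) * t₁ := by group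
    _ = v * (v * (t * t₁)) * t₁ := by rw [d.t1_v]
    _ = v * v * t * (t₁ * t₁) := by group
    _ = v * v * t := by rw [d.t1t1, mul_one]

theorem v_sq [Finite I] : v * v = 1 ∨ v * v = t := by
  obtain ⟨h1, h2, h3, h4⟩ := d.v_notV
  have hc : v * v * t = t * (v * v) := mem_cent.1 (mul_mem d.v_mem d.v_mem)
  rcases d.mem_T hc with e | e | e | e | e | e | e | e
  · exact .inl e
  · exact .inr e
  · exact absurd (by rw [← e]; group : v * t₁ = t₁ * v) d.vt1
  · exfalso
    have hh : v * (t * t₁) = t * t₁ * v := by rw [← e]; group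
    rw [← mul_assoc, d.vt, mul_assoc, mul_assoc] at hh
    exact d.vt1 (mul_left_cancel hh)
  · exact absurd (mul_eq_left.1 e) h1
  · exact absurd (mul_left_cancel e) h2
  · exact absurd (mul_left_cancel e) h3
  · exact absurd (mul_left_cancel e) h4

/-- Normal form: `v` may be taken to be an involution. -/
theorem exists_invol [Finite I] : ∃ w, Data z t t₁ w ∧ w * w = 1 := by
  rcases d.v_sq with h | h
  · exact ⟨v, d, h⟩
  · refine ⟨v * t₁, { d with
      vt := by rw [mul_assoc, ← d.comm, ← mul_assoc, d.vt, mul_assoc]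
      vt1 := fun e => d.vt1 (mul_right_cancel (b := t₁) ?_) }, by rw [d.vt1_sq, h, d.tt]⟩
    rw [e, mul_assoc]

theorem v_ord (hv : v * v = 1) : orderOf v = 2 := ord_two hv d.v_notV.1

/-- The involutions commuting with `t`. -/
theorem invol_T [Finite I] (hv : v * v = 1) {a : I} (ha : a * t = t * a) (h2 : a * a = 1) (h1 : a ≠ 1) :
    a = t ∨ a = t₁ ∨ a = t * t₁ ∨ a = v ∨ a = v * t := by
  rcases d.mem_T ha with e | e | e | e | e | e | e | e
  · exact absurd e h1
  · exact .inl e
  · exact .inr (.inl e)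
  · exact .inr (.inr (.inl e))
  · exact .inr (.inr (.inr (.inl e)))
  · exact .inr (.inr (.inr (.inr e)))
  · exfalso
    rw [e, d.vt1_sq, hv, one_mul] at h2
    exact d.t_ne h2
  · exfalso
    rw [← mul_assoc] at e
    have hh : v * t * t₁ * (v * t * t₁) = t * t * (v * t₁ * (v * t₁)) := by
      calc v * t * t₁ * (v * t * t₁) = (v * t) * t₁ * (v * t) * t₁ := by group
        _ = (t * v) * t₁ * (t * v) * t₁ := by rw [d.vt]
        _ = t * v * (t₁ * t) * v * t₁ := by group
        _ = t * v * (t * t₁) * v * t₁ := by rw [d.comm]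
        _ = t * (v * t) * t₁ * v * t₁ := by group
        _ = t * (t * v) * t₁ * v * t₁ := by rw [d.vt]
        _ = t * t * (v * t₁ * (v * t₁)) := by group
    rw [e, hh, d.tt, one_mul, d.vt1_sq, hv, one_mul] at h2
    exact d.t_ne h2

/-- An element normalising `C(t)` fixes `t`. -/
theorem central_T [Finite I] {a : I} (ha : ∀ x ∈ centralizer ({t} : Set I), a * x = x * a) : a = 1 ∨ a = t := by
  have hv' := ha v d.v_mem
  have h1' := ha t₁ d.t1_mem
  rcases d.mem_T (ha t d.t_mem) with e | e | e | e | e | e | e | e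
  · exact .inl e
  · exact .inr e
  · rw [e] at hv'; exact absurd hv'.symm d.vt1
  · rw [e, ← d.v_conj] at hv'
    refine absurd hv' fun hh => d.ne ?_
    have h3 : t * t₁ = t₁ := (mul_left_cancel hh).symm
    exact absurd (mul_eq_right.1 h3) d.t_ne
  all_goals exfalso; rw [e] at h1'
  · exact d.vt1 h1'
  · refine d.vt1 (mul_right_cancel (b := t) ?_)
    rw [mul_assoc, ← d.comm, ← mul_assoc, h1', mul_assoc]
  · refine d.vt1 (mul_right_cancel (b := t₁) ?_)
    rw [h1', mul_assoc]
  · refine d.vt1 (mul_right_cancel (b := t * t₁) ?_)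
    have h9 : t₁ * (t * t₁) = t * t₁ * t₁ := by rw [← mul_assoc, ← d.comm]
    calc v * t₁ * (t * t₁) = v * (t * t₁) * t₁ := by rw [mul_assoc, h9, ← mul_assoc]
      _ = t₁ * (v * (t * t₁)) := h1'
      _ = t₁ * v * (t * t₁) := by rw [mul_assoc]

/-- `C(t)` is a Sylow 2-subgroup. -/
theorem exists_sylow [Finite I] : ∃ P : Sylow 2 I, (P : Subgroup I) = centralizer ({t} : Set I) := by
  haveI := Fact.mk Nat.prime_two
  obtain ⟨P, hP⟩ := (IsPGroup.of_card (p := 2) (n := 3) d.ct).exists_le_sylow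
  refine ⟨P, ?_⟩
  by_contra hne
  haveI : Group.IsNilpotent ↥(P : Subgroup I) := P.2.isNilpotent
  have hlt : (centralizer ({t} : Set I)).subgroupOf (P : Subgroup I) < ⊤ := lt_top_iff_ne_top.2 fun e =>
    hne (le_antisymm (subgroupOf_eq_top.1 e) hP)
  obtain ⟨k, hk, hkn⟩ := SetLike.exists_of_lt (Group.normalizerCondition_of_isNilpotent _ hlt)
  apply hkn
  show (k : I) ∈ centralizer ({t} : Set I)
  have hmove : ∀ x ∈ centralizer ({t} : Set I), (k : I)⁻¹ * x * (k : I) ∈ centralizer ({t} : Set I) := fun x hx => by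
    have := (mem_normalizer_iff.1 (inv_mem hk) ⟨x, hP hx⟩).1 hx
    simpa [mem_subgroupOf] using this
  have hc : ∀ x ∈ centralizer ({t} : Set I), (k : I) * t * (k : I)⁻¹ * x = x * ((k : I) * t * (k : I)⁻¹) := by
    intro x hx
    have h := mem_cent.1 (hmove x hx)
    calc (k : I) * t * (k : I)⁻¹ * x = (k : I) * (t * ((k : I)⁻¹ * x * (k : I))) * (k : I)⁻¹ := by group
      _ = (k : I) * (((k : I)⁻¹ * x * (k : I)) * t) * (k : I)⁻¹ := by rw [h]
      _ = x * ((k : I) * t * (k : I)⁻¹) := by group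
  rcases d.central_T hc with e | e
  · exact absurd (conj_eq_one_iff.1 e) d.t_ne
  · exact mem_cent.2 (mul_inv_eq_iff_eq_mul.1 e)

/-- An involution is conjugate to one of the five involutions of `C(t)`. -/
theorem conj_into [Finite I] (hv : v * v = 1) {w : I} (hw : orderOf w = 2) :
    IsConj t w ∨ IsConj t₁ w ∨ IsConj (t * t₁) w ∨ IsConj v w ∨ IsConj (v * t) w := by
  haveI := Fact.mk Nat.prime_two
  obtain ⟨P, hP⟩ := d.exists_sylow
  obtain ⟨R, hR⟩ := (IsPGroup.of_card (p := 2) (n := 1) (G := zpowers w)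
    (by rw [Nat.card_zpowers, hw, pow_one])).exists_le_sylow
  obtain ⟨g, hg⟩ := MulAction.exists_smul_eq I R P
  have hmem : g * w * g⁻¹ ∈ centralizer ({t} : Set I) := by
    rw [← hP, ← hg, Sylow.coe_subgroup_smul]
    exact Subgroup.smul_mem_pointwise_smul _ (MulAut.conj g) _ (hR (mem_zpowers w))
  have hwc : IsConj (g * w * g⁻¹) w := isConj_iff.2 ⟨g⁻¹, by group⟩
  have hsq : g * w * g⁻¹ * (g * w * g⁻¹) = 1 := isConj_sq hwc.symm (sq_of_ord hw)
  have hne : g * w * g⁻¹ ≠ 1 := fun e => ne_one_of_ord hw (conj_eq_one_iff.1 e)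
  rcases d.invol_T hv (mem_cent.1 hmem) hsq hne with e | e | e | e | e <;> rw [e] at hwc
  · exact .inl hwc
  · exact .inr (.inl hwc)
  · exact .inr (.inr (.inl hwc))
  · exact .inr (.inr (.inr (.inl hwc)))
  · exact .inr (.inr (.inr (.inr hwc)))

theorem v_vt [Finite I] : IsConj v (v * t) := isConj_iff.2 ⟨t₁, by
  rw [d.t1_v, inv_eq_of_mul_eq_one_right d.t1t1, mul_assoc, mul_assoc, d.t1t1, mul_one]⟩

theorem z_v [Finite I] (hv : v * v = 1) : IsConj z v ∧ IsConj z (v * t) := by
  rcases d.conj_into hv d.z_ord with h | h | h | h | h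
  · exact absurd h.symm d.nt
  · exact absurd h.symm d.nt1
  · exact absurd h.symm d.nt2
  · exact ⟨h.symm, h.symm.trans d.v_vt⟩
  · exact ⟨h.symm.trans d.v_vt.symm, h.symm⟩

/-- The centraliser of another involution of the four group is a conjugate of `C(t)`. -/
theorem exists_move [Finite I] {u : I} (hu : Nat.card (centralizer ({u} : Set I)) = 8) (hu1 : u ≠ 1) :
    ∃ g : I, g * t * g⁻¹ = u ∧ ∀ x : I, x * t = t * x ↔ g * x * g⁻¹ * u = u * (g * x * g⁻¹) := by
  haveI := Fact.mk Nat.prime_two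
  obtain ⟨P, hP⟩ := d.exists_sylow
  obtain ⟨R, hR⟩ := (IsPGroup.of_card (p := 2) (n := 3) hu).exists_le_sylow
  have hR' : (R : Subgroup I) = centralizer ({u} : Set I) := by
    refine (Subgroup.eq_of_le_of_card_ge hR ?_).symm
    rw [hu, R.card_eq_multiplicity, ← P.card_eq_multiplicity, hP, d.ct]
  obtain ⟨g, hg⟩ := MulAction.exists_smul_eq I P R
  have key : ∀ x, x * t = t * x ↔ g * x * g⁻¹ * u = u * (g * x * g⁻¹) := by
    intro x
    rw [← mem_cent, ← mem_cent, ← hR', ← hg, Sylow.coe_subgroup_smul, ← hP]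
    exact Subgroup.smul_mem_pointwise_smul_iff.symm
  refine ⟨g, ?_, key⟩
  have hc : ∀ x ∈ centralizer ({t} : Set I), g⁻¹ * u * g * x = x * (g⁻¹ * u * g) := by
    intro x hx
    have h := (key x).1 (mem_cent.1 hx)
    calc g⁻¹ * u * g * x = g⁻¹ * (u * (g * x * g⁻¹)) * g := by group
      _ = g⁻¹ * (g * x * g⁻¹ * u) * g := by rw [h]
      _ = x * (g⁻¹ * u * g) := by group
  rcases d.central_T hc with e | e
  · exfalso
    apply hu1
    calc u = g * (g⁻¹ * u * g) * g⁻¹ := by group
      _ = 1 := by rw [e]; group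
  · rw [← e]; group

theorem hall [Finite I] (hv : v * v = 1) {w : I} (hw : orderOf w = 2) : IsConj v w ∨ IsConj t w := by
  have h1 : IsConj t t₁ := by
    obtain ⟨g, hg, -⟩ := d.exists_move d.ct1 d.t1_ne
    exact isConj_iff.2 ⟨g, hg⟩
  have h2 : IsConj t (t * t₁) := by
    obtain ⟨g, hg, -⟩ := d.exists_move d.ct2 d.tt1_ne
    exact isConj_iff.2 ⟨g, hg⟩
  rcases d.conj_into hv hw with h | h | h | h | h
  · exact .inr h
  · exact .inr (h1.trans h)
  · exact .inr (h2.trans h)
  · exact .inl h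
  · exact .inl (d.v_vt.trans h)

theorem not_v_t [Finite I] (hv : v * v = 1) : ¬ IsConj v t := fun h => d.nt ((d.z_v hv).1.trans h)

theorem pairs_t [Finite I] (hv : v * v = 1) :
    Nat.card {p : I × I // IsConj v p.1 ∧ IsConj t p.2 ∧ t ∈ zpowers (p.1 * p.2)} = 4 := by
  classical
  have h1 : IsConj t t₁ := by
    obtain ⟨g, hg, -⟩ := d.exists_move d.ct1 d.t1_ne
    exact isConj_iff.2 ⟨g, hg⟩
  have h2 : IsConj t (t * t₁) := by
    obtain ⟨g, hg, -⟩ := d.exists_move d.ct2 d.tt1_ne
    exact isConj_iff.2 ⟨g, hg⟩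
  obtain ⟨n1, n2, n3, n4⟩ := d.v_notV
  let F : Bool × Bool → I × I := fun b => (cond b.1 v (v * t), cond b.2 t₁ (t * t₁))
  have hF : Function.Injective F := by
    rintro ⟨a, b⟩ ⟨a', b'⟩ h
    have e1 := congrArg Prod.fst h
    have e2 := congrArg Prod.snd h
    have f1 : v ≠ v * t := fun e => d.t_ne (left_eq_mul.1 e)
    have f2 : t₁ ≠ t * t₁ := fun e => d.t_ne (right_eq_mul.1 e)
    cases a <;> cases a' <;> cases b <;> cases b' <;>
      first | rfl | exact absurd e1 f1 | exact absurd e1.symm f1 | exact absurd e2 f2 | exact absurd e2.symm f2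
  have hset : {p : I × I | IsConj v p.1 ∧ IsConj t p.2 ∧ t ∈ zpowers (p.1 * p.2)} = Set.range F := by
    ext ⟨a, b⟩
    constructor
    · rintro ⟨ha, hb, hab⟩
      have ha2 := isConj_sq ha hv
      have hb2 := isConj_sq hb d.tt
      have ha1 : a ≠ 1 := fun e => n1 (isConj_one_left.1 (e ▸ ha))
      have hb1 : b ≠ 1 := fun e => d.t_ne (isConj_one_left.1 (e ▸ hb))
      obtain ⟨hat, hbt⟩ := pair_comm ha2 hb2 d.tt hab
      have hA : a = v ∨ a = v * t := by
        rcases d.invol_T hv hat ha2 ha1 with e | e | e | e | e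
        · exact absurd (e ▸ ha) (d.not_v_t hv)
        · exact absurd (e ▸ ha) fun h => d.not_v_t hv (h.trans h1.symm)
        · exact absurd (e ▸ ha) fun h => d.not_v_t hv (h.trans h2.symm)
        · exact .inl e
        · exact .inr e
      have hB : b = t₁ ∨ b = t * t₁ := by
        rcases d.invol_T hv hbt hb2 hb1 with e | e | e | e | e
        · exfalso
          change a * t = t * a at hat
          change b = t at e
          change t ∈ zpowers (a * b) at hab
          rw [e] at hab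
          have hsq : a * t * (a * t) = 1 := by
            rw [mul_assoc, ← mul_assoc t, ← hat, mul_assoc a t, d.tt, mul_one, ha2]
          rcases mem_zpowers_invol hsq hab with e' | e'
          · exact d.t_ne e'
          · exact ha1 (right_eq_mul.1 e')
        · exact .inl e
        · exact .inr e
        · exact absurd (e ▸ hb).symm (d.not_v_t hv)
        · exact absurd (d.v_vt.trans (e ▸ hb).symm) (d.not_v_t hv)
      rcases hA with rfl | rfl <;> rcases hB with rfl | rfl
      · exact ⟨(true, true), rfl⟩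
      · exact ⟨(true, false), rfl⟩
      · exact ⟨(false, true), rfl⟩
      · exact ⟨(false, false), rfl⟩
    · rintro ⟨⟨x, y⟩, hxy⟩
      have hs : ∀ a b : I, a * b * (a * b) = t → t ∈ zpowers (a * b) := fun a b h => by
        rw [← h]; exact mul_mem (mem_zpowers _) (mem_zpowers _)
      have s1 : v * t₁ * (v * t₁) = t := by rw [d.vt1_sq, hv, one_mul]
      have s2 : v * (t * t₁) * (v * (t * t₁)) = t := by
        rw [← mul_assoc v t t₁, d.vt, mul_assoc t v t₁, mul_assoc t (v * t₁),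
          ← mul_assoc (v * t₁) t, mul_assoc v t₁ t, ← d.comm, ← mul_assoc v t t₁, d.vt, mul_assoc t v t₁,
          mul_assoc t (v * t₁), ← mul_assoc t t, d.tt, one_mul, s1]
      have s3 : v * t * t₁ * (v * t * t₁) = t := by rw [mul_assoc v t t₁]; exact s2
      have s4 : v * t * (t * t₁) * (v * t * (t * t₁)) = t := by
        rw [mul_assoc v t, ← mul_assoc t t, d.tt, one_mul]; exact s1
      rw [← hxy]
      cases x <;> cases y
      · exact ⟨d.v_vt, h2, hs _ _ s4⟩
      · exact ⟨d.v_vt, h1, hs _ _ s3⟩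
      · exact ⟨IsConj.refl v, h2, hs _ _ s2⟩
      · exact ⟨IsConj.refl v, h1, hs _ _ s1⟩
  have h := congrArg Set.ncard hset
  rw [Set.ncard_range_of_injective hF, ← Nat.card_coe_set_eq, Nat.card_eq_fintype_card (α := Bool × Bool)] at h
  exact h.trans rfl

theorem card_cv [Finite I] (hv : v * v = 1) : Nat.card (centralizer ({v} : Set I)) = 12 := by
  rw [CfsgLib.Invol.card_centralizer_of_isConj (d.z_v hv).1, d.cz]

/-- An element of order three centralising `v` and inverted by `t`. -/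
theorem exists_three [Finite I] (hv : v * v = 1) : ∃ r : I, r * r * r = 1 ∧ r ≠ 1 ∧ r * v = v * r ∧
    t * r = r * r * t ∧ ∀ x, x * v = v * x →
      ∃ i : Fin 3, ∃ a, (a = 1 ∨ a = v ∨ a = t ∨ a = v * t) ∧ x = r ^ (i : ℕ) * a := by
  classical
  haveI := Fact.mk Nat.prime_three
  obtain ⟨r₀, hr₀⟩ := exists_prime_orderOf_dvd_card' (G := centralizer ({v} : Set I)) 3 (by rw [d.card_cv hv]; norm_num)
  set r := (r₀ : I) with hr
  have ho : orderOf r = 3 := by rw [hr, Subgroup.orderOf_coe, hr₀]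
  have hrv : r * v = v * r := mem_cent.1 r₀.2
  have hr3 : r * r * r = 1 := by
    have := pow_orderOf_eq_one r
    rwa [ho, pow_succ, pow_two] at this
  have hr1 : r ≠ 1 := fun e => by rw [e, orderOf_one] at ho; omega
  have hrt : r * t ≠ t * r := fun h => by
    have := Subgroup.orderOf_dvd_natCard _ (mem_cent.2 h)
    rw [ho, d.ct] at this
    omega
  -- the twelve elements
  let W : Fin 4 → I := ![1, v, t, v * t]
  let f : Fin 3 × Fin 4 → I := fun p => r ^ (p.1 : ℕ) * W p.2
  have hWc : ∀ j, W j * t = t * W j := by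
    intro j
    fin_cases j
    · show (1 : I) * t = t * 1; simp
    · exact d.vt
    · rfl
    · show v * t * t = t * (v * t); rw [← mul_assoc t v, d.vt]
  have hWv : ∀ j, W j * v = v * W j := by
    intro j
    fin_cases j
    · show (1 : I) * v = v * 1; simp
    · rfl
    · exact d.vt.symm
    · show v * t * v = v * (v * t); rw [mul_assoc, ← d.vt]
  have hWi : Function.Injective W := by
    obtain ⟨n1, n2, -, -⟩ := d.v_notV
    have n3 : v * t ≠ 1 := fun e => n2 (mul_right_cancel (e.trans d.tt.symm))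
    have n4 : v * t ≠ t := fun e => n1 (mul_eq_right.1 e)
    have n5 : v * t ≠ v := fun e => d.t_ne (mul_eq_left.1 e)
    have n6 := d.t_ne
    intro i j h
    fin_cases i <;> fin_cases j <;> simp [W] at h ⊢ <;>
      first
        | exact absurd h n1 | exact absurd h.symm n1 | exact absurd h n2 | exact absurd h.symm n2
        | exact absurd h n3 | exact absurd h.symm n3 | exact absurd h n4 | exact absurd h.symm n4
        | exact absurd h n5 | exact absurd h.symm n5 | exact absurd h n6 | exact absurd h.symm n6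
        | (exfalso; simp_all)
  have hf : Function.Injective f := by
    rintro ⟨i, j⟩ ⟨i', j'⟩ h
    have hi : i = i' := by
      by_contra hne
      have hpow : (r ^ (i' : ℕ))⁻¹ * r ^ (i : ℕ) = W j' * (W j)⁻¹ := by
        rw [inv_mul_eq_iff_eq_mul, ← mul_assoc, eq_mul_inv_iff_mul_eq]; exact h
      have hcm : (W j' * (W j)⁻¹) * t = t * (W j' * (W j)⁻¹) :=
        (Commute.mul_left (hWc j') (Commute.inv_left (hWc j))).eq
      rw [← hpow] at hcm
      apply hrt
      have hz : (r ^ (i' : ℕ))⁻¹ * r ^ (i : ℕ) = r ^ (((i : ℕ) : ℤ) - (i' : ℕ)) := by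
        rw [← zpow_natCast, ← zpow_natCast, ← zpow_neg, ← zpow_add, neg_add_eq_sub]
      rw [hz] at hcm
      have hcases : ((i : ℕ) : ℤ) - (i' : ℕ) = 1 ∨ ((i : ℕ) : ℤ) - (i' : ℕ) = -1 ∨ ((i : ℕ) : ℤ) - (i' : ℕ) = 2 ∨
          ((i : ℕ) : ℤ) - (i' : ℕ) = -2 := by
        have := i.2
        have := i'.2
        have : (i : ℕ) ≠ i' := fun e => hne (Fin.ext e)
        omega
      have r2 : r ^ (2 : ℤ) = r⁻¹ := by
        rw [zpow_two]; exact eq_inv_of_mul_eq_one_left hr3
      rcases hcases with e | e | e | e <;> rw [e] at hcm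
      · rwa [zpow_one] at hcm
      · rw [zpow_neg_one] at hcm; exact Commute.inv_left_iff.1 hcm
      · rw [r2] at hcm; exact Commute.inv_left_iff.1 hcm
      · rw [zpow_neg, r2, inv_inv] at hcm; exact hcm
    subst hi
    exact Prod.ext rfl (hWi (mul_left_cancel h))
  have hmem : ∀ p, f p ∈ centralizer ({v} : Set I) := fun p =>
    mul_mem (pow_mem (mem_cent.2 hrv) _) (mem_cent.2 (hWv p.2))
  have hb : Function.Bijective (fun p => (⟨f p, hmem p⟩ : centralizer ({v} : Set I))) :=
    (Nat.bijective_iff_injective_and_card _).2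
      ⟨fun i j h => hf (congrArg Subtype.val h), by
        rw [d.card_cv hv, Nat.card_eq_fintype_card, Fintype.card_prod, Fintype.card_fin, Fintype.card_fin]⟩
  have hsurj : ∀ x, x * v = v * x →
      ∃ i : Fin 3, ∃ a, (a = 1 ∨ a = v ∨ a = t ∨ a = v * t) ∧ x = r ^ (i : ℕ) * a := by
    intro x hx
    obtain ⟨⟨i, j⟩, hij⟩ := hb.2 ⟨x, mem_cent.2 hx⟩
    refine ⟨i, W j, ?_, (congrArg Subtype.val hij).symm⟩
    fin_cases j <;> simp [W]
  refine ⟨r, hr3, hr1, hrv, ?_, hsurj⟩
  -- `t` inverts `r`: the cyclic subgroup of order six is normal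
  have htc : t ∈ centralizer ({v} : Set I) := mem_cent.2 d.vt.symm
  let q : ↥(centralizer ({v} : Set I)) := ⟨v, mem_cent.2 rfl⟩ * r₀
  have hq6 : orderOf q = 6 := by
    have hc : Commute (⟨v, mem_cent.2 rfl⟩ : ↥(centralizer ({v} : Set I))) r₀ := Subtype.ext hrv.symm
    have hv2 : orderOf (⟨v, mem_cent.2 rfl⟩ : ↥(centralizer ({v} : Set I))) = 2 := by rw [← Subgroup.orderOf_coe]; exact d.v_ord hv
    rw [show q = ⟨v, mem_cent.2 rfl⟩ * r₀ from rfl, hc.orderOf_mul_eq_mul_orderOf_of_coprime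
      (by rw [hv2, hr₀]; norm_num), hv2, hr₀]
  have hidx : (zpowers q).index = 2 := by
    have := (zpowers q).card_mul_index
    rw [Nat.card_zpowers, hq6, d.card_cv hv] at this
    omega
  have hnorm := Subgroup.normal_of_index_eq_two hidx
  have hrq : r₀ ∈ zpowers q := by
    refine mem_zpowers_iff.2 ⟨4, ?_⟩
    have hc : Commute (⟨v, mem_cent.2 rfl⟩ : ↥(centralizer ({v} : Set I))) r₀ := Subtype.ext hrv.symm
    rw [show q = ⟨v, mem_cent.2 rfl⟩ * r₀ from rfl, hc.mul_zpow]
    refine Subtype.ext ?_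
    push_cast
    have hv4 : v ^ (4 : ℤ) = 1 := by
      rw [show (4 : ℤ) = ((4 : ℕ) : ℤ) from rfl, zpow_natCast, show (4 : ℕ) = 2 * 2 from rfl, pow_mul, pow_two v, hv,
        one_pow]
    have hr4 : r ^ (4 : ℤ) = r := by
      rw [show (4 : ℤ) = 3 + 1 from rfl, zpow_add, zpow_one, show (3 : ℤ) = ((3 : ℕ) : ℤ) from rfl, zpow_natCast,
        pow_succ, pow_two, hr3, one_mul]
    rw [hv4, one_mul, hr4]
  have hcj := hnorm.conj_mem _ hrq ⟨t, htc⟩
  have hcomm : ∀ a ∈ zpowers q, a * r₀ = r₀ * a := by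
    intro a ha
    have hc : Commute q r₀ :=
      Commute.mul_left (show Commute (⟨v, mem_cent.2 rfl⟩ : ↥(centralizer ({v} : Set I))) r₀ from Subtype.ext hrv.symm)
        (Commute.refl r₀)
    obtain ⟨k, rfl⟩ := mem_zpowers_iff.1 ha
    exact (hc.zpow_left k).eq
  set w := t * r * t⁻¹ with hw
  have hwc : w * r = r * w := congrArg Subtype.val (hcomm _ hcj)
  have hwv : w * v = v * w := mem_cent.1 (mul_mem (mul_mem htc r₀.2) (inv_mem htc))
  obtain ⟨i, a, ha, hwa⟩ := hsurj w hwv
  have hw3 : w * w * w = 1 := by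
    rw [hw, show t * r * t⁻¹ * (t * r * t⁻¹) * (t * r * t⁻¹) = t * (r * r * r) * t⁻¹ by group, hr3]; group
  have hac : a * r = r * a := by
    rw [hwa, mul_assoc, ← mul_assoc r, ← pow_succ', pow_succ, mul_assoc] at hwc
    exact mul_left_cancel hwc
  have ha' : a = 1 ∨ a = v := by
    rcases ha with e | e | e | e
    · exact .inl e
    · exact .inr e
    · rw [e] at hac; exact absurd hac.symm hrt
    · exfalso
      rw [e, mul_assoc, ← mul_assoc r, hrv, mul_assoc] at hac
      exact hrt (mul_left_cancel hac).symm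
  have ha1 : a = 1 := by
    rcases ha' with e | e
    · exact e
    exfalso
    rw [e] at hwa hac
    have hcm : Commute (r ^ (i : ℕ)) v := (Commute.pow_left (show Commute r v from hrv) _)
    have h3 : (r ^ (i : ℕ) * v) ^ 3 = 1 := by rw [← hwa, pow_succ, pow_two, hw3]
    rw [hcm.mul_pow, ← pow_mul, mul_comm (i : ℕ), pow_mul, show r ^ 3 = 1 by rw [pow_succ, pow_two, hr3],
      one_pow, one_mul, pow_succ, pow_two, hv, one_mul] at h3
    exact d.v_notV.1 h3
  rw [ha1, mul_one] at hwa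
  have hmul : t * r = r ^ (i : ℕ) * t := by rw [← hwa, hw]; group
  fin_cases i
  · exfalso; rw [pow_zero, one_mul] at hmul; exact hr1 (mul_eq_left.1 hmul)
  · exfalso; rw [pow_one] at hmul; exact hrt hmul.symm
  · rw [hmul]; rw [pow_two]

theorem pairs_v [Finite I] (hv : v * v = 1) :
    Nat.card {p : I × I // IsConj v p.1 ∧ IsConj t p.2 ∧ v ∈ zpowers (p.1 * p.2)} = 9 := by
  classical
  obtain ⟨r, hr3, hr1, hrv, htr, hall'⟩ := d.exists_three hv
  have htt : t * t = 1 := d.tt
  have hconj : ∀ i : Fin 3, IsConj t (r ^ (i : ℕ) * t) ∧ IsConj v (r ^ (i : ℕ) * (v * t)) := by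
    have hri : r⁻¹ = r * r := inv_eq_of_mul_eq_one_right (by rw [← mul_assoc, hr3])
    have c1 : ∀ x, r * r * (x) * (r * r)⁻¹ = r * r * x * r := fun x => by
      rw [show (r * r)⁻¹ = r from inv_eq_of_mul_eq_one_left (by rw [← mul_assoc, hr3])]
    have k1 : r * r * t * (r * r)⁻¹ = r * t := by
      rw [c1, mul_assoc (r * r) t r, htr, show r * r * (r * r * t) = r * r * r * (r * t) by group, hr3, one_mul]
    have k2 : r * t * r⁻¹ = r * r * t := by
      rw [hri, show r * t * (r * r) = r * (t * r) * r by group, htr,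
        show r * (r * r * t) * r = r * r * r * (t * r) by group, hr3, one_mul, htr]
    have hcv : Commute r v := hrv
    have k3 : ∀ g, g * v = v * g → g * (v * t) * g⁻¹ = v * (g * t * g⁻¹) := fun g hg => by
      rw [← mul_assoc g, hg]; group
    intro i
    fin_cases i
    · simp only [pow_zero, one_mul]; exact ⟨IsConj.refl t, d.v_vt⟩
    · simp only [pow_one]
      refine ⟨isConj_iff.2 ⟨_, k1⟩, d.v_vt.trans (isConj_iff.2 ⟨r * r, ?_⟩)⟩
      rw [k3 _ (hcv.mul_left hcv).eq, k1, ← mul_assoc, ← hrv, mul_assoc]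
    · simp only [pow_two]
      refine ⟨isConj_iff.2 ⟨_, k2⟩, d.v_vt.trans (isConj_iff.2 ⟨r, ?_⟩)⟩
      rw [k3 _ hrv, k2, ← mul_assoc, ← (hcv.mul_left hcv).eq, mul_assoc]
  let F : Fin 3 × Fin 3 → I × I := fun p => (r ^ (p.1 : ℕ) * (v * t), r ^ (p.2 : ℕ) * t)
  have hrinj : ∀ i j : Fin 3, r ^ (i : ℕ) = r ^ (j : ℕ) → i = j := by
    have ho : orderOf r = 3 := by
      haveI := Fact.mk Nat.prime_three
      exact orderOf_eq_prime (by rw [pow_succ, pow_two, hr3]) hr1
    intro i j h
    exact Fin.ext (pow_injOn_Iio_orderOf (x := r) (by rw [Set.mem_Iio, ho]; exact i.2) (by rw [Set.mem_Iio, ho]; exact j.2) h)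
  have hF : Function.Injective F := by
    rintro ⟨i, j⟩ ⟨i', j'⟩ h
    exact Prod.ext (hrinj _ _ (mul_right_cancel (congrArg Prod.fst h)))
      (hrinj _ _ (mul_right_cancel (congrArg Prod.snd h)))
  have htv : t * v = v * t := d.vt.symm
  have hrinv : ∀ n : ℕ, t * r ^ n = (r ^ n)⁻¹ * t := by
    intro n
    have h1 : t * r * t⁻¹ = r⁻¹ := by
      rw [htr, mul_inv_cancel_right]; exact eq_inv_of_mul_eq_one_left hr3
    rw [← inv_pow, ← h1, conj_pow]; group
  have invol_list : ∀ x, x * v = v * x → x * x = 1 → x ≠ 1 →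
      x = v ∨ ∃ i : Fin 3, x = r ^ (i : ℕ) * t ∨ x = r ^ (i : ℕ) * (v * t) := by
    intro x hx hx2 hx1
    obtain ⟨i, a, ha, rfl⟩ := hall' x hx
    rcases ha with e | e | e | e <;> rw [e] at hx2 hx1 ⊢
    · exfalso
      rw [mul_one] at hx2 hx1
      fin_cases i <;> simp only [pow_zero, pow_one, pow_two] at hx2 hx1
      · exact hx1 rfl
      · exact hr1 (by have := hr3; rwa [hx2, one_mul] at this)
      · exact hr1 (by rw [show r * r * (r * r) = r * r * r * r by group, hr3, one_mul] at hx2; exact hx2)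
    · left
      have hc : Commute (r ^ (i : ℕ)) _ := Commute.pow_left (show Commute r v from hrv) _
      have : r ^ (i : ℕ) * r ^ (i : ℕ) = 1 := by
        calc r ^ (i : ℕ) * r ^ (i : ℕ) = r ^ (i : ℕ) * r ^ (i : ℕ) * (v * v) := by rw [hv, mul_one]
          _ = r ^ (i : ℕ) * (r ^ (i : ℕ) * v) * v := by group
          _ = r ^ (i : ℕ) * (v * r ^ (i : ℕ)) * v := by rw [hc.eq]
          _ = r ^ (i : ℕ) * v * (r ^ (i : ℕ) * v) := by group
          _ = 1 := hx2
      fin_cases i <;> simp only [pow_zero, pow_one, pow_two, one_mul] at this ⊢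
      · exact absurd (by have := hr3; rwa [‹r * r = 1›, one_mul] at this) hr1
      · exact absurd (by rw [show r * r * (r * r) = r * r * r * r by group, hr3, one_mul] at this; exact this) hr1
    · exact .inr ⟨i, .inl rfl⟩
    · exact .inr ⟨i, .inr rfl⟩
  have hset : {p : I × I | IsConj v p.1 ∧ IsConj t p.2 ∧ v ∈ zpowers (p.1 * p.2)} = Set.range F := by
    ext ⟨a, b⟩
    constructor
    · rintro ⟨ha, hb, hab⟩
      have ha2 := isConj_sq ha hv
      have hb2 := isConj_sq hb d.tt
      have ha1 : a ≠ 1 := fun e => d.v_notV.1 (isConj_one_left.1 (e ▸ ha))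
      have hb1 : b ≠ 1 := fun e => d.t_ne (isConj_one_left.1 (e ▸ hb))
      obtain ⟨hav, hbv⟩ := pair_comm ha2 hb2 hv hab
      have hB : ∃ j : Fin 3, b = r ^ (j : ℕ) * t := by
        rcases invol_list b hbv hb2 hb1 with e | ⟨j, e | e⟩
        · exact absurd (e ▸ hb).symm (d.not_v_t hv)
        · exact ⟨j, e⟩
        · exact absurd ((hconj j).2.trans (e ▸ hb).symm) (d.not_v_t hv)
      obtain ⟨j, rfl⟩ := hB
      rcases invol_list a hav ha2 ha1 with e | ⟨i, e | e⟩
      · exfalso
        change a = v at e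
        change v ∈ zpowers (a * _) at hab
        rw [e] at hab
        have hc : Commute v (r ^ (j : ℕ) * t) :=
          ((Commute.pow_left (show Commute r v from hrv) _).symm).mul_right d.vt
        have hsq : v * (r ^ (j : ℕ) * t) * (v * (r ^ (j : ℕ) * t)) = 1 := by
          rw [mul_assoc, ← mul_assoc (r ^ (j : ℕ) * t), ← hc.eq, mul_assoc v, hb2, mul_one, hv]
        rcases mem_zpowers_invol hsq hab with e' | e'
        · exact d.v_notV.1 e'
        · exact hb1 (left_eq_mul.1 e')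
      · exact absurd ((e ▸ ha).trans (hconj i).1.symm) (d.not_v_t hv)
      · exact ⟨(i, j), by rw [e]⟩
    · rintro ⟨⟨i, j⟩, hij⟩
      rw [← hij]
      refine ⟨(hconj i).2, (hconj j).1, ?_⟩
      show v ∈ zpowers (r ^ (i : ℕ) * (v * t) * (r ^ (j : ℕ) * t))
      set x := r ^ (i : ℕ) * (r ^ (j : ℕ))⁻¹ with hx
      have hcv : Commute v x := by
        have h0 : Commute v r := hrv.symm
        exact ((h0.pow_right _).mul_right (h0.pow_right _).inv_right)
      have e : r ^ (i : ℕ) * (v * t) * (r ^ (j : ℕ) * t) = v * x := by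
        have h0 : Commute (r ^ (i : ℕ)) v := Commute.pow_left (show Commute r v from hrv) _
        calc r ^ (i : ℕ) * (v * t) * (r ^ (j : ℕ) * t) = (r ^ (i : ℕ) * v) * (t * r ^ (j : ℕ)) * t := by group
          _ = (v * r ^ (i : ℕ)) * ((r ^ (j : ℕ))⁻¹ * t) * t := by rw [h0.eq, hrinv]
          _ = v * x * (t * t) := by rw [hx]; group
          _ = v * x := by rw [htt, mul_one]
      rw [e]
      refine mem_zpowers_iff.2 ⟨3, ?_⟩
      have hx3 : x ^ (3 : ℤ) = 1 := by
        have hr3' : r ^ (3 : ℕ) = 1 := by rw [pow_succ, pow_two, hr3]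
        rw [show (3 : ℤ) = ((3 : ℕ) : ℤ) from rfl, zpow_natCast, hx,
          ((Commute.refl r).pow_pow _ _).inv_right.mul_pow, inv_pow, ← pow_mul, ← pow_mul,
          mul_comm (i : ℕ), mul_comm (j : ℕ), pow_mul, pow_mul, hr3', one_pow, one_pow, inv_one, mul_one]
      rw [hcv.mul_zpow, hx3, mul_one, show (3 : ℤ) = ((3 : ℕ) : ℤ) from rfl, zpow_natCast, pow_succ, pow_two, hv,
        one_mul]
  have h := congrArg Set.ncard hset
  rw [Set.ncard_range_of_injective hF, ← Nat.card_coe_set_eq, Nat.card_eq_fintype_card (α := Fin 3 × Fin 3)] at h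
  exact h.trans rfl

/-- The order. -/
theorem card_eq [Finite I] : Nat.card I = 120 := by
  obtain ⟨w, d', hw⟩ := d.exists_invol
  have h := Cfsg.Agent.S0213.result w t (d'.v_ord hw) d.t_ord (d'.not_v_t hw) (fun u hu => d'.hall hw hu)
  rw [d.ct, d'.card_cv hw, d'.pairs_v hw, d'.pairs_t hw] at h
  exact h

end Data

end CfsgLib.JankoFour.Seven
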