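import Cfsg.Agent.Lib.JankoFour.Seven.SymFive
import Cfsg.Prelude.Def_TwoFusion
import Mathlib.GroupTheory.SchurZassenhaus

/-!
# The centraliser and normaliser of a subgroup of order seven, from local data
-/

set_option autoImplicit false
set_option linter.unusedSectionVars false

namespace CfsgLib.JankoFour.Seven

open Subgroup

variable {G : Type*} [Group G]

/-- The local data at `S`. -/
structure Local (S : Subgroup G) (z t t₁ v : G) : Prop where
  cardS : Nat.card S = 7
  z_ord : orderOf z = 2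
  z_mem : z ∈ centralizer (S : Set G)
  cz : Nat.card ↥(centralizer ({z} : Set G) ⊓ centralizer (S : Set G)) = 84
  nz : Nat.card ↥(centralizer ({z} : Set G) ⊓ normalizer (S : Set G)) = 252
  t_ord : orderOf t = 2
  t1_ord : orderOf t₁ = 2
  t_mem : t ∈ centralizer (S : Set G)
  t1_mem : t₁ ∈ centralizer (S : Set G)
  v_mem : v ∈ centralizer (S : Set G)
  comm : t * t₁ = t₁ * t
  ne : t ≠ t₁
  ct : Nat.card ↥(centralizer ({t} : Set G) ⊓ centralizer (S : Set G)) = 56
  ct1 : Nat.card ↥(centralizer ({t₁} : Set G) ⊓ centralizer (S : Set G)) = 56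
  ct2 : Nat.card ↥(centralizer ({t * t₁} : Set G) ⊓ centralizer (S : Set G)) = 56
  nt : ¬ IsConj z t
  nt1 : ¬ IsConj z t₁
  nt2 : ¬ IsConj z (t * t₁)
  vt : v * t = t * v
  vt1 : v * t₁ ≠ t₁ * v

section Kernel

variable {C : Type*} [Group C] {K : Subgroup C}

theorem ker_invol (hK : Nat.card K = 7) {s : C} (hs : s ∈ K) (h : s * s = 1) : s = 1 := by
  refine orderOf_eq_one_iff.1 ?_
  have h1 := Subgroup.orderOf_dvd_natCard _ hs
  have h2 : orderOf s ∣ 2 := orderOf_dvd_of_pow_eq_one (by rw [pow_two, h])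
  rw [hK] at h1
  exact Nat.eq_one_of_dvd_one (by simpa using Nat.dvd_gcd h1 h2)

variable [K.Normal] (hK : Nat.card K = 7) (hc : ∀ s ∈ K, ∀ c : C, c * s = s * c)
include hK hc

theorem mk_invol_eq {x y : C} (hx : x * x = 1) (hy : y * y = 1) (h : (x : C ⧸ K) = y) : x = y := by
  have hs : x⁻¹ * y ∈ K := QuotientGroup.eq.1 h
  have hi : x⁻¹ = x := inv_eq_of_mul_eq_one_right hx
  rw [hi] at hs
  have hxy : x * y = y * x := by
    have h9 := hc _ hs x
    rw [← mul_assoc, hx, one_mul] at h9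
    calc x * y = y⁻¹⁻¹ * (y⁻¹ * (x * y)) := by group
      _ = y * x := by
        have h8 : x * y * x = y := h9.symm
        rw [inv_inv, inv_eq_of_mul_eq_one_right hy]
        calc y * (y * (x * y)) = (y * y) * (x * y) := by group
          _ = x * y := by rw [hy, one_mul]
          _ = x * y * (x * x) := by rw [hx, mul_one]
          _ = (x * y * x) * x := by group
          _ = y * x := by rw [h8]
  have := ker_invol hK hs (by rw [mul_assoc, ← mul_assoc y, ← hxy, mul_assoc x y y, hy, mul_one, hx])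
  exact ((inv_eq_of_mul_eq_one_right this).symm.trans hi).symm

theorem isConj_mk {x y : C} (hx : x * x = 1) (hy : y * y = 1) (h : IsConj (x : C ⧸ K) y) : IsConj x y := by
  obtain ⟨g, hg⟩ := isConj_iff.1 h
  induction g using QuotientGroup.induction_on with
  | _ g =>
    rw [← QuotientGroup.mk_mul, ← QuotientGroup.mk_inv, ← QuotientGroup.mk_mul] at hg
    refine isConj_iff.2 ⟨g, mk_invol_eq hK hc ?_ hy hg⟩
    rw [show g * x * g⁻¹ * (g * x * g⁻¹) = g * (x * x) * g⁻¹ by group, hx]; group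

theorem card_cent_mk [Finite C] {x : C} (hx : x * x = 1) :
    Nat.card (centralizer ({x} : Set C)) = 7 * Nat.card (centralizer ({(x : C ⧸ K)} : Set (C ⧸ K))) := by
  have heq : centralizer ({x} : Set C) = (centralizer ({(x : C ⧸ K)} : Set (C ⧸ K))).comap (QuotientGroup.mk' K) := by
    ext c
    simp only [mem_centralizer_singleton_iff, mem_comap, QuotientGroup.mk'_apply, ← QuotientGroup.mk_mul]
    refine ⟨fun h => by rw [h], fun h => ?_⟩
    have h2 : ((c * x * c⁻¹ : C) : C ⧸ K) = x := by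
      rw [QuotientGroup.mk_mul, h, ← QuotientGroup.mk_mul, mul_inv_cancel_right]
    exact mul_inv_eq_iff_eq_mul.1 (mk_invol_eq hK hc
      (by rw [show c * x * c⁻¹ * (c * x * c⁻¹) = c * (x * x) * c⁻¹ by group, hx]; group) hx h2)
  rw [heq]
  set D := centralizer ({(x : C ⧸ K)} : Set (C ⧸ K))
  have h1 := (D.comap (QuotientGroup.mk' K)).card_mul_index
  rw [Subgroup.index_comap_of_surjective D (QuotientGroup.mk'_surjective K),
    Subgroup.card_eq_card_quotient_mul_card_subgroup K, hK, ← D.card_mul_index] at h1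
  have hp : 0 < D.index := Nat.pos_of_ne_zero D.index_ne_zero_of_finite
  exact Nat.eq_of_mul_eq_mul_right hp (by rw [h1]; ring)

end Kernel

namespace Local

variable {S : Subgroup G} {z t t₁ v : G} (L : Local S z t t₁ v)
include L

theorem S_comm {s : G} (hs : s ∈ S) : s ∈ centralizer (S : Set G) := by
  haveI := Fact.mk (show Nat.Prime 7 by norm_num)
  haveI : IsCyclic S := isCyclic_of_prime_card L.cardS
  haveI : IsMulCommutative S := IsCyclic.isMulCommutative
  refine mem_centralizer_iff.2 fun y hy => ?_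
  exact congrArg Subtype.val (IsMulCommutative.is_comm.comm (⟨y, hy⟩ : S) ⟨s, hs⟩)

theorem kerCard : Nat.card (S.subgroupOf (centralizer (S : Set G))) = 7 := by
  rw [Nat.card_congr (Subgroup.subgroupOfEquivOfLe fun s hs => L.S_comm hs).toEquiv, L.cardS]

omit L in
theorem kerCentral {s : centralizer (S : Set G)} (hs : s ∈ S.subgroupOf (centralizer (S : Set G)))
    (c : centralizer (S : Set G)) : c * s = s * c :=
  Subtype.ext (mem_centralizer_iff.1 c.2 (s : G) hs).symm

omit L in
theorem card_cent_sub {x : G} (hx : x ∈ centralizer (S : Set G)) :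
    Nat.card (centralizer ({(⟨x, hx⟩ : centralizer (S : Set G))} : Set (centralizer (S : Set G)))) =
      Nat.card ↥(centralizer ({x} : Set G) ⊓ centralizer (S : Set G)) :=
  Nat.card_congr
    { toFun := fun a => ⟨((a : centralizer (S : Set G)) : G), mem_inf.2
        ⟨mem_centralizer_singleton_iff.2 (congrArg Subtype.val (mem_centralizer_singleton_iff.1 a.2)),
          (a : centralizer (S : Set G)).2⟩⟩
      invFun := fun a => ⟨⟨a, (mem_inf.1 a.2).2⟩,
        mem_centralizer_singleton_iff.2 (Subtype.ext (mem_centralizer_singleton_iff.1 (mem_inf.1 a.2).1))⟩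
      left_inv := fun _ => rfl
      right_inv := fun _ => rfl }

variable [Finite G] [(S.subgroupOf (centralizer (S : Set G))).Normal]

/-- The data in the quotient. -/
theorem data : Data (((⟨z, L.z_mem⟩ : centralizer (S : Set G))) : _ ⧸ S.subgroupOf (centralizer (S : Set G)))
    (⟨t, L.t_mem⟩ : centralizer (S : Set G)) (⟨t₁, L.t1_mem⟩ : centralizer (S : Set G))
    (⟨v, L.v_mem⟩ : centralizer (S : Set G)) := by
  have sq : ∀ {x : G} (hx : x ∈ centralizer (S : Set G)), orderOf x = 2 →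
      (⟨x, hx⟩ : centralizer (S : Set G)) * ⟨x, hx⟩ = 1 := fun hx h => Subtype.ext (sq_of_ord h)
  have hcomm : (⟨t, L.t_mem⟩ : centralizer (S : Set G)) * ⟨t₁, L.t1_mem⟩ = ⟨t₁, L.t1_mem⟩ * ⟨t, L.t_mem⟩ :=
    Subtype.ext L.comm
  have htt1 : orderOf (t * t₁) = 2 := ord_two (by
      have hh : Commute t t₁ := L.comm
      rw [← pow_two, hh.mul_pow, pow_two, pow_two, sq_of_ord L.t_ord, sq_of_ord L.t1_ord, one_mul])
    fun h => L.ne (mul_right_cancel (h.trans (sq_of_ord L.t1_ord).symm))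
  have tt1m : t * t₁ ∈ centralizer (S : Set G) := mul_mem L.t_mem L.t1_mem
  have inv_eq : ∀ {x y : G} (hx : x ∈ centralizer (S : Set G)) (hy : y ∈ centralizer (S : Set G)),
      x * x = 1 → y * y = 1 →
      ((⟨x, hx⟩ : centralizer (S : Set G)) : _ ⧸ S.subgroupOf (centralizer (S : Set G))) =
        (⟨y, hy⟩ : centralizer (S : Set G)) → x = y := fun hx hy h1 h2 h =>
    congrArg Subtype.val (mk_invol_eq L.kerCard (fun s hs c => kerCentral hs c) (Subtype.ext h1) (Subtype.ext h2) h)
  have ord : ∀ {x : G} (hx : x ∈ centralizer (S : Set G)), orderOf x = 2 →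
      orderOf ((⟨x, hx⟩ : centralizer (S : Set G)) : _ ⧸ S.subgroupOf (centralizer (S : Set G))) = 2 :=
    fun hx h => ord_two (by rw [← QuotientGroup.mk_mul, sq hx h, QuotientGroup.mk_one]) fun e =>
      ne_one_of_ord h (inv_eq hx (one_mem _) (sq_of_ord h) (mul_one 1) e)
  have cent : ∀ {x : G} (hx : x ∈ centralizer (S : Set G)), orderOf x = 2 →
      7 * Nat.card (centralizer ({((⟨x, hx⟩ : centralizer (S : Set G)) :
        _ ⧸ S.subgroupOf (centralizer (S : Set G)))} : Set _)) =
        Nat.card ↥(centralizer ({x} : Set G) ⊓ centralizer (S : Set G)) := fun hx h => by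
    rw [← card_cent_sub hx, ← card_cent_mk L.kerCard (fun s hs c => kerCentral hs c) (sq hx h)]
  have conj : ∀ {x : G} (hx : x ∈ centralizer (S : Set G)), orderOf x = 2 → ¬ IsConj z x →
      ¬ IsConj ((⟨z, L.z_mem⟩ : centralizer (S : Set G)) : _ ⧸ S.subgroupOf (centralizer (S : Set G)))
        (⟨x, hx⟩ : centralizer (S : Set G)) := fun hx h hn hh => hn
    ((centralizer (S : Set G)).subtype.map_isConj
      (isConj_mk L.kerCard (fun s hs c => kerCentral hs c) (sq L.z_mem L.z_ord) (sq hx h) hh))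
  refine
    { z_ord := ord L.z_mem L.z_ord
      t_ord := ord L.t_mem L.t_ord
      t1_ord := ord L.t1_mem L.t1_ord
      comm := by rw [← QuotientGroup.mk_mul, ← QuotientGroup.mk_mul, hcomm]
      ne := fun h => L.ne (inv_eq L.t_mem L.t1_mem (sq_of_ord L.t_ord) (sq_of_ord L.t1_ord) h)
      cz := ?_
      ct := ?_
      ct1 := ?_
      ct2 := ?_
      nt := conj L.t_mem L.t_ord L.nt
      nt1 := conj L.t1_mem L.t1_ord L.nt1
      nt2 := ?_
      vt := by rw [← QuotientGroup.mk_mul, ← QuotientGroup.mk_mul]; exact congrArg _ (Subtype.ext L.vt)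
      vt1 := ?_ }
  · have h := cent L.z_mem L.z_ord; rw [L.cz] at h; omega
  · have h := cent L.t_mem L.t_ord; rw [L.ct] at h; omega
  · have h := cent L.t1_mem L.t1_ord; rw [L.ct1] at h; omega
  · have h := cent tt1m htt1; rw [L.ct2] at h
    rw [← QuotientGroup.mk_mul]
    exact Nat.eq_of_mul_eq_mul_left (by norm_num : 0 < 7) (h.trans rfl)
  · rw [← QuotientGroup.mk_mul]
    exact conj tt1m htt1 L.nt2
  · intro h
    apply L.vt1
    have hm : v * t₁ * v⁻¹ ∈ centralizer (S : Set G) := mul_mem (mul_mem L.v_mem L.t1_mem) (inv_mem L.v_mem)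
    have hq : ((⟨v * t₁ * v⁻¹, hm⟩ : centralizer (S : Set G)) : _ ⧸ S.subgroupOf (centralizer (S : Set G))) =
        (⟨t₁, L.t1_mem⟩ : centralizer (S : Set G)) := by
      rw [show (⟨v * t₁ * v⁻¹, hm⟩ : centralizer (S : Set G)) =
        ⟨v, L.v_mem⟩ * ⟨t₁, L.t1_mem⟩ * ⟨v, L.v_mem⟩⁻¹ from rfl, QuotientGroup.mk_mul, QuotientGroup.mk_mul, h,
        QuotientGroup.mk_inv, mul_inv_cancel_right]
    exact mul_inv_eq_iff_eq_mul.1 (inv_eq hm L.t1_mem
      (by rw [show v * t₁ * v⁻¹ * (v * t₁ * v⁻¹) = v * (t₁ * t₁) * v⁻¹ by group, sq_of_ord L.t1_ord]; group)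
      (sq_of_ord L.t1_ord) hq)

theorem card_centralizer : Nat.card (centralizer (S : Set G)) = 840 := by
  rw [Subgroup.card_eq_card_quotient_mul_card_subgroup (S.subgroupOf (centralizer (S : Set G))), L.kerCard,
    L.data.card_eq]

theorem exists_complement : ∃ I : Subgroup G,
    Cfsg.IsInternalDirectProduct S I (centralizer (S : Set G)) ∧ Nonempty (I ≃* Equiv.Perm (Fin 5)) := by
  obtain ⟨e⟩ := L.data.nonempty_equiv_perm
  have hq : (S.subgroupOf (centralizer (S : Set G))).index = 120 := by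
    rw [Subgroup.index_eq_card]; exact L.data.card_eq
  obtain ⟨K, hK⟩ := Subgroup.exists_right_complement'_of_coprime
    (N := S.subgroupOf (centralizer (S : Set G))) (by rw [L.kerCard, hq]; norm_num)
  refine ⟨K.map (centralizer (S : Set G)).subtype, ⟨fun s hs => L.S_comm hs, map_subtype_le K, ?_, ?_, ?_⟩, ?_⟩
  · rintro a ha _ ⟨b, -, rfl⟩
    exact mem_centralizer_iff.1 b.2 a ha
  · rw [eq_bot_iff]
    rintro x ⟨hxS, b, hb, rfl⟩
    have : b ∈ S.subgroupOf (centralizer (S : Set G)) ⊓ K := ⟨hxS, hb⟩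
    rw [hK.disjoint.eq_bot, mem_bot] at this
    simp [this]
  · refine le_antisymm (sup_le (fun s hs => L.S_comm hs) (map_subtype_le K)) fun x hx => ?_
    obtain ⟨⟨a, b⟩, hab⟩ := hK.2 ⟨x, hx⟩
    rw [← show (a : G) * (b : G) = x from congrArg Subtype.val hab]
    exact mul_mem (mem_sup_left a.2) (mem_sup_right ⟨b, b.2, rfl⟩)
  · exact ⟨(K.equivMapOfInjective _ (subtype_injective _)).symm.trans
      ((hK.symm.QuotientMulEquiv).symm.trans e)⟩

theorem not_dvd : ¬ 49 ∣ Nat.card G := by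
  intro h49
  haveI : Fact (Nat.Prime 7) := ⟨by norm_num⟩
  have hS7 : IsPGroup 7 S := IsPGroup.of_card (n := 1) (by rw [L.cardS, pow_one])
  obtain ⟨P, hP⟩ := hS7.exists_le_sylow
  obtain ⟨k, hk⟩ := P.2.exists_card_eq
  have hk2 : 2 ≤ k := by
    have h := P.pow_dvd_card_of_pow_dvd_card (n := 2) (by norm_num; exact h49)
    rw [hk] at h
    exact (Nat.pow_dvd_pow_iff_le_right (by norm_num)).1 h
  obtain ⟨U, hU, hSU⟩ := Sylow.exists_subgroup_card_pow_prime_le 7 (G := P) (n := 1) (m := 2)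
    (by rw [hk]; exact pow_dvd_pow _ hk2) (S.subgroupOf P)
    (by rw [Nat.card_congr (Subgroup.subgroupOfEquivOfLe hP).toEquiv, L.cardS, pow_one]) (by norm_num)
  set U' := U.map (P : Subgroup G).subtype
  have hUc : Nat.card U' = 7 ^ 2 := by
    rw [← Nat.card_congr (U.equivMapOfInjective _ (subtype_injective _)).toEquiv, hU]
  have hle : U' ≤ centralizer (S : Set G) := by
    intro u hu
    refine mem_centralizer_iff.2 fun s hs => ?_
    have hsU : s ∈ U' := ⟨⟨s, hP hs⟩, hSU hs, rfl⟩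
    haveI := IsPGroup.isMulCommutative_of_card_eq_prime_sq hUc
    exact congrArg Subtype.val (IsMulCommutative.is_comm.comm (⟨s, hsU⟩ : U') ⟨u, hu⟩)
  have hd := Subgroup.card_dvd_of_le hle
  rw [hUc, L.card_centralizer] at hd
  norm_num at hd

theorem card_normalizer : Nat.card ↥(normalizer (S : Set G)) = 2520 := by
  classical
  have hCN : centralizer (S : Set G) ≤ normalizer (S : Set G) := centralizer_le_normalizer _
  obtain ⟨w, d', hw⟩ := L.data.exists_invol
  have hzN : z ∈ normalizer (S : Set G) := hCN L.z_mem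
  have horb : ∀ g ∈ normalizer (S : Set G), ∃ c ∈ centralizer (S : Set G), c * z * c⁻¹ = g * z * g⁻¹ := by
    intro g hg
    have hx : g * z * g⁻¹ ∈ centralizer (S : Set G) := by
      refine mem_centralizer_iff.2 fun s hs => ?_
      have hs' : g⁻¹ * s * g ∈ S := by
        have := (mem_normalizer_iff.1 (inv_mem hg) s).1 hs
        simpa using this
      have h := mem_centralizer_iff.1 L.z_mem _ hs'
      calc s * (g * z * g⁻¹) = g * ((g⁻¹ * s * g) * z) * g⁻¹ := by group
        _ = g * (z * (g⁻¹ * s * g)) * g⁻¹ := by rw [h]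
        _ = g * z * g⁻¹ * s := by group
    have hzx : IsConj z (g * z * g⁻¹) := isConj_iff.2 ⟨g, rfl⟩
    have hx2 : (⟨g * z * g⁻¹, hx⟩ : centralizer (S : Set G)) * ⟨g * z * g⁻¹, hx⟩ = 1 :=
      Subtype.ext (isConj_sq hzx (sq_of_ord L.z_ord))
    have hord : orderOf ((⟨g * z * g⁻¹, hx⟩ : centralizer (S : Set G)) :
        _ ⧸ S.subgroupOf (centralizer (S : Set G))) = 2 := by
      refine ord_two (by rw [← QuotientGroup.mk_mul, hx2, QuotientGroup.mk_one]) fun e => ?_
      have := congrArg Subtype.val (mk_invol_eq (x := (⟨g * z * g⁻¹, hx⟩ : centralizer (S : Set G))) (y := 1)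
        L.kerCard (fun s hs c => kerCentral hs c) hx2 (mul_one 1) (e.trans (QuotientGroup.mk_one (S.subgroupOf (centralizer (S : Set G)))).symm))
      exact ne_one_of_ord L.z_ord (conj_eq_one_iff.1 this)
    rcases d'.hall hw hord with h | h
    · have h' := isConj_mk L.kerCard (fun s hs c => kerCentral hs c) (Subtype.ext (sq_of_ord L.z_ord)) hx2
        ((d'.z_v hw).1.trans h)
      obtain ⟨c, hc⟩ := isConj_iff.1 h'
      exact ⟨c, c.2, congrArg Subtype.val hc⟩
    · have h' := isConj_mk L.kerCard (fun s hs c => kerCentral hs c) (Subtype.ext (sq_of_ord L.t_ord)) hx2 h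
      exact absurd (hzx.trans ((centralizer (S : Set G)).subtype.map_isConj h').symm) L.nt
  have e : Nat.card {y : ↥(normalizer (S : Set G)) // IsConj (⟨z, hzN⟩ : ↥(normalizer (S : Set G))) y} =
      Nat.card {y : ↥(centralizer (S : Set G)) // IsConj (⟨z, L.z_mem⟩ : ↥(centralizer (S : Set G))) y} := by
    have himg : ∀ y : {y : ↥(centralizer (S : Set G)) // IsConj (⟨z, L.z_mem⟩ : ↥(centralizer (S : Set G))) y},
        IsConj (⟨z, hzN⟩ : ↥(normalizer (S : Set G))) ⟨(y.1 : G), hCN y.1.2⟩ := fun y => by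
      obtain ⟨c, hc⟩ := isConj_iff.1 y.2
      exact isConj_iff.2 ⟨⟨(c : G), hCN c.2⟩, Subtype.ext (congrArg Subtype.val hc :)⟩
    refine (Nat.card_eq_of_bijective (fun y => ⟨⟨(y.1 : G), hCN y.1.2⟩, himg y⟩) ⟨?_, ?_⟩).symm
    · intro a b h
      exact Subtype.ext (Subtype.ext (congrArg (fun y => ((y.1 : ↥(normalizer (S : Set G))) : G)) h :))
    · rintro ⟨y, hy⟩
      obtain ⟨g, hg⟩ := isConj_iff.1 hy
      obtain ⟨c, hc, hcz⟩ := horb g g.2
      exact ⟨⟨⟨c, hc⟩ * ⟨z, L.z_mem⟩ * ⟨c, hc⟩⁻¹, isConj_iff.2 ⟨_, rfl⟩⟩,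
        Subtype.ext (Subtype.ext (hcz.trans (congrArg Subtype.val hg :)))⟩
  have hcN : Nat.card (centralizer ({(⟨z, hzN⟩ : ↥(normalizer (S : Set G)))} : Set _)) = 252 := by
    rw [← L.nz]
    exact Nat.card_congr
      { toFun := fun a => ⟨((a : ↥(normalizer (S : Set G))) : G), mem_inf.2
          ⟨mem_centralizer_singleton_iff.2 (congrArg Subtype.val (mem_centralizer_singleton_iff.1 a.2)),
            (a : ↥(normalizer (S : Set G))).2⟩⟩
        invFun := fun a => ⟨⟨a, (mem_inf.1 a.2).2⟩,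
          mem_centralizer_singleton_iff.2 (Subtype.ext (mem_centralizer_singleton_iff.1 (mem_inf.1 a.2).1))⟩
        left_inv := fun _ => rfl
        right_inv := fun _ => rfl }
  have h1 := CfsgLib.Invol.card_conjugates_mul (⟨z, hzN⟩ : ↥(normalizer (S : Set G)))
  have h2 := CfsgLib.Invol.card_conjugates_mul (⟨z, L.z_mem⟩ : ↥(centralizer (S : Set G)))
  rw [e, hcN] at h1
  rw [card_cent_sub L.z_mem, L.cz, L.card_centralizer] at h2
  omega

end Local

/-- The conclusion. -/
theorem Local.conclusion [Finite G] {S : Subgroup G} {z t t₁ v : G} (L : Local S z t t₁ v) :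
    ¬ (49 ∣ Nat.card G) ∧
    (∃ I : Subgroup G, Cfsg.IsInternalDirectProduct S I (centralizer (S : Set G)) ∧
      Nonempty (↥I ≃* Equiv.Perm (Fin 5))) ∧
    Nat.card ↥(normalizer (S : Set G)) = 3 * Nat.card ↥(centralizer (S : Set G)) ∧
    Nat.card ↥(normalizer (S : Set G)) = 2 ^ 3 * 3 ^ 2 * 5 * 7 := by
  haveI : (S.subgroupOf (centralizer (S : Set G))).Normal := ⟨fun s hs c => by
    rw [Local.kerCentral hs c, mul_inv_cancel_right]; exact hs⟩
  refine ⟨L.not_dvd, L.exists_complement, ?_, ?_⟩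
  · rw [L.card_normalizer, L.card_centralizer]
  · rw [L.card_normalizer]; rfl

end CfsgLib.JankoFour.Seven
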