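import Cfsg.Agent.Lib.JankoFour.Seven.Counts
import Mathlib.GroupTheory.GroupAction.Quotient

/-!
# Two classes of involutions with centralisers of orders twelve and eight: the symmetric group of degree five
-/

set_option autoImplicit false
set_option linter.unusedSectionVars false

namespace CfsgLib.JankoFour.Seven

open Subgroup

variable {I : Type*} [Group I]

namespace Data

variable {z t t₁ v : I} (d : Data z t t₁ v)
include d

/-- The four group. -/
theorem exists_four : ∃ V : Subgroup I, ∀ x, x ∈ V ↔ x = 1 ∨ x = t ∨ x = t₁ ∨ x = t * t₁ := by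
  have e1 : t * (t * t₁) = t₁ := by rw [← mul_assoc, d.tt, one_mul]
  have e2 : t₁ * (t * t₁) = t := by rw [d.comm, ← mul_assoc, d.t1t1, one_mul]
  have e3 : t * t₁ * t = t₁ := by rw [d.comm, mul_assoc, d.tt, mul_one]
  have e4 : t * t₁ * t₁ = t := by rw [mul_assoc, d.t1t1, mul_one]
  have e5 : t * t₁ * (t * t₁) = 1 := by rw [← mul_assoc, e3, d.t1t1]
  refine ⟨{ carrier := {x | x = 1 ∨ x = t ∨ x = t₁ ∨ x = t * t₁}
            one_mem' := .inl rfl
            mul_mem' := ?_
            inv_mem' := ?_ }, fun x => Iff.rfl⟩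
  · intro a b ha hb
    rcases ha with rfl | rfl | rfl | rfl <;> rcases hb with rfl | rfl | rfl | rfl <;>
      simp [d.tt, d.t1t1, ← d.comm, e1, e2, e3, e4, e5]
  · intro a ha
    rcases ha with rfl | rfl | rfl | rfl
    · simp
    · simp [inv_eq_of_mul_eq_one_right d.tt]
    · simp [inv_eq_of_mul_eq_one_right d.t1t1]
    · simp [inv_eq_of_mul_eq_one_right d.tt, inv_eq_of_mul_eq_one_right d.t1t1, ← d.comm]

theorem isConj_t1 [Finite I] : IsConj t t₁ ∧ IsConj t (t * t₁) := by
  obtain ⟨g, hg, -⟩ := d.exists_move d.ct1 d.t1_ne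
  obtain ⟨k, hk, -⟩ := d.exists_move d.ct2 d.tt1_ne
  exact ⟨isConj_iff.2 ⟨g, hg⟩, isConj_iff.2 ⟨k, hk⟩⟩

/-- A conjugate of `t` in `C(t)` lies in the four group. -/
theorem tclass_T [Finite I] (hv : v * v = 1) {V : Subgroup I}
    (hV : ∀ x, x ∈ V ↔ x = 1 ∨ x = t ∨ x = t₁ ∨ x = t * t₁) {x : I} (hx : IsConj t x) (hxt : x * t = t * x) :
    x ∈ V := by
  have hx1 : x ≠ 1 := fun e => d.t_ne (isConj_one_left.1 (e ▸ hx))
  rcases d.invol_T hv hxt (isConj_sq hx d.tt) hx1 with e | e | e | e | e
  · exact (hV x).2 (.inr (.inl e))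
  · exact (hV x).2 (.inr (.inr (.inl e)))
  · exact (hV x).2 (.inr (.inr (.inr e)))
  · exact absurd (e ▸ hx).symm (d.not_v_t hv)
  · exact absurd (d.v_vt.trans (e ▸ hx).symm) (d.not_v_t hv)

/-- Recognition. -/
theorem nonempty_equiv_perm [Finite I] : Nonempty (I ≃* Equiv.Perm (Fin 5)) := by
  classical
  obtain ⟨w, d', hw⟩ := d.exists_invol
  clear d
  rename' d' => d
  obtain ⟨V, hV⟩ := d.exists_four
  set N : Subgroup I := normalizer (V : Set I) with hN
  have tclass : ∀ x, x ∈ V → x ≠ 1 → IsConj t x := fun x hx hx1 => by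
    rcases (hV x).1 hx with e | e | e | e
    · exact absurd e hx1
    · rw [e]
    · rw [e]; exact d.isConj_t1.1
    · rw [e]; exact d.isConj_t1.2
  -- `C(t)` normalises the four group
  have hCN : centralizer ({t} : Set I) ≤ N := by
    have key : ∀ g, g * t = t * g → ∀ x ∈ V, g * x * g⁻¹ ∈ V := fun g hg x hx => by
      by_cases hx1 : x = 1
      · rw [hx1]; simp [one_mem]
      refine d.tclass_T hw hV ((tclass x hx hx1).trans (isConj_iff.2 ⟨g, rfl⟩)) ?_
      have hxt : x * t = t * x := by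
        rcases (hV x).1 hx with e | e | e | e <;> rw [e]
        · simp
        · exact d.comm.symm
        · rw [mul_assoc, ← d.comm]
      exact mem_cent.1 (mul_mem (mul_mem (mem_cent.2 hg) (mem_cent.2 hxt)) (inv_mem (mem_cent.2 hg)))
    intro g hg
    refine mem_normalizer_iff.2 fun x => ⟨key g (mem_cent.1 hg) x, fun h => ?_⟩
    have := key g⁻¹ (mem_cent.1 (inv_mem hg)) _ h
    rwa [show g⁻¹ * (g * x * g⁻¹) * g⁻¹⁻¹ = x by group] at this
  have htN : t ∈ N := hCN d.t_mem
  -- the normaliser is transitive on the three involutions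
  have trans : ∀ u, u ∈ V → u ≠ 1 → ∃ g ∈ N, g * t * g⁻¹ = u := by
    intro u hu hu1
    obtain ⟨hcu, hVu⟩ : Nat.card (centralizer ({u} : Set I)) = 8 ∧ ∀ x ∈ V, x * u = u * x := by
      have hVc : ∀ x ∈ V, ∀ y ∈ V, x * y = y * x := by
        have c1 : Commute t t₁ := d.comm
        intro x hx y hy
        rcases (hV x).1 hx with ex | ex | ex | ex <;> rcases (hV y).1 hy with ey | ey | ey | ey <;> rw [ex, ey]
        all_goals first
          | exact (Commute.one_left _).eq | exact (Commute.one_right _).eq | exact (Commute.refl _).eq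
          | exact c1.eq | exact c1.symm.eq
          | exact ((Commute.refl t).mul_right c1).eq | exact (c1.symm.mul_right (Commute.refl t₁)).eq
          | exact ((Commute.refl t).mul_right c1).symm.eq | exact (c1.symm.mul_right (Commute.refl t₁)).symm.eq
      refine ⟨?_, fun x hx => hVc x hx u hu⟩
      rcases (hV u).1 hu with e | e | e | e
      · exact absurd e hu1
      · rw [e]; exact d.ct
      · rw [e]; exact d.ct1
      · rw [e]; exact d.ct2
    obtain ⟨g, hg, hgc⟩ := d.exists_move hcu hu1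
    have hle : ∀ x ∈ V, g⁻¹ * x * g ∈ V := by
      intro x hx
      by_cases hx1 : x = 1
      · rw [hx1]; simp [one_mem]
      refine d.tclass_T hw hV ((tclass x hx hx1).trans (isConj_iff.2 ⟨g⁻¹, by rw [inv_inv]⟩)) ((hgc _).2 ?_)
      rw [show g * (g⁻¹ * x * g) * g⁻¹ = x by group]
      exact hVu x hx
    refine ⟨g, ?_, hg⟩
    have hgi : g⁻¹ ∈ N := by
      refine mem_normalizer_iff.2 fun x => ?_
      simp only [inv_inv]
      refine ⟨hle x, fun h => ?_⟩
      have hbij : Function.Bijective (fun y : V => (⟨g⁻¹ * y * g, hle y y.2⟩ : V)) :=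
        Finite.injective_iff_bijective.1 fun a b e =>
          Subtype.ext (mul_left_cancel (mul_right_cancel (congrArg Subtype.val e)))
      obtain ⟨⟨y, hy⟩, e⟩ := hbij.2 ⟨_, h⟩
      exact (mul_left_cancel (mul_right_cancel (congrArg Subtype.val e))) ▸ hy
    simpa using inv_mem hgi
  -- orders
  have h1 := CfsgLib.Invol.card_conjugates_mul (⟨t, htN⟩ : N)
  have hC : Nat.card (centralizer ({(⟨t, htN⟩ : N)} : Set N)) = 8 := by
    rw [← d.ct]
    exact Nat.card_congr
      { toFun := fun a => ⟨((a : N) : I), mem_cent.2 (congrArg Subtype.val (mem_cent.1 a.2))⟩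
        invFun := fun a => ⟨⟨a, hCN a.2⟩, mem_cent.2 (Subtype.ext (mem_cent.1 a.2))⟩
        left_inv := fun _ => rfl
        right_inv := fun _ => rfl }
  have hO : Nat.card {y : N // IsConj (⟨t, htN⟩ : N) y} = 3 := by
    have hset : (Subtype.val : N → I) '' {y : N | IsConj (⟨t, htN⟩ : N) y} = ({t, t₁, t * t₁} : Set I) := by
      ext x
      constructor
      · rintro ⟨y, hy, rfl⟩
        obtain ⟨c, hc⟩ := isConj_iff.1 hy
        have hc' : (c : I) * t * (c : I)⁻¹ = (y : I) := congrArg Subtype.val hc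
        have hm : (y : I) ∈ V := hc' ▸ (mem_normalizer_iff.1 c.2 t).1 ((hV t).2 (.inr (.inl rfl)))
        rcases (hV _).1 hm with e | e | e | e
        · exact absurd (conj_eq_one_iff.1 (hc'.trans e)) d.t_ne
        · exact .inl e
        · exact .inr (.inl e)
        · exact .inr (.inr e)
      · intro hx
        have hxV : x ∈ V ∧ x ≠ 1 := by
          rcases hx with e | e | e
          · exact ⟨(hV x).2 (.inr (.inl e)), e ▸ d.t_ne⟩
          · exact ⟨(hV x).2 (.inr (.inr (.inl e))), e ▸ d.t1_ne⟩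
          · exact ⟨(hV x).2 (.inr (.inr (.inr e))), e ▸ d.tt1_ne⟩
        obtain ⟨g, hg, hgx⟩ := trans x hxV.1 hxV.2
        exact ⟨⟨g, hg⟩ * ⟨t, htN⟩ * ⟨g, hg⟩⁻¹, isConj_iff.2 ⟨_, rfl⟩, hgx⟩
    have h := congrArg Set.ncard hset
    rw [Set.ncard_image_of_injective _ Subtype.val_injective, ← Nat.card_coe_set_eq] at h
    refine h.trans (Set.ncard_eq_three.2 ⟨t, t₁, t * t₁, d.ne, fun e => d.t1_ne (left_eq_mul.1 e),
      fun e => d.t_ne (right_eq_mul.1 e), rfl⟩)
  rw [hO, hC] at h1
  have hidx : Nat.card (I ⧸ N) = 5 := by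
    have h := N.card_mul_index
    rw [← h1, d.card_eq, Subgroup.index_eq_card] at h
    omega
  -- faithfulness
  have hcls : Nat.card {y : I // IsConj t y} = 15 := by
    have h := CfsgLib.Invol.card_conjugates_mul t
    rw [d.ct, d.card_eq] at h
    omega
  have hNclass : ∀ x ∈ N, IsConj t x → x ∈ V := by
    intro x hx htx
    haveI := Fact.mk Nat.prime_two
    -- a Sylow subgroup of `N`
    have hcard : Nat.card N = 24 := h1.symm.trans rfl
    let T : Subgroup N := (centralizer ({t} : Set I)).subgroupOf N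
    have hT : Nat.card T = 2 ^ (Nat.card N).factorization 2 := by
      rw [Nat.card_congr (Subgroup.subgroupOfEquivOfLe hCN).toEquiv, d.ct, hcard,
        Nat.factorization_def _ Nat.prime_two]
      have hv2 : padicValNat 2 24 = 3 := by
        rw [show (24 : ℕ) = 2 ^ 3 * 3 from rfl, padicValNat.mul (by norm_num) (by norm_num),
          padicValNat.prime_pow, padicValNat.eq_zero_of_not_dvd (by norm_num)]
      rw [hv2]; rfl
    let P : Sylow 2 N := Sylow.ofCard T hT
    have hx2 : x * x = 1 := isConj_sq htx d.tt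
    obtain ⟨R, hR⟩ := (IsPGroup.of_card (p := 2) (n := 1) (G := zpowers (⟨x, hx⟩ : N)) (by
      rw [Nat.card_zpowers, pow_one, ← Subgroup.orderOf_coe]
      exact ord_two hx2 fun e => d.t_ne (isConj_one_left.1 ((show x = 1 from e) ▸ htx)))).exists_le_sylow
    obtain ⟨g, hg⟩ := MulAction.exists_smul_eq N R P
    have hmem : g * ⟨x, hx⟩ * g⁻¹ ∈ T := by
      have h : g * ⟨x, hx⟩ * g⁻¹ ∈ (P : Subgroup N) := by
        rw [← hg, Sylow.coe_subgroup_smul]
        exact Subgroup.smul_mem_pointwise_smul _ (MulAut.conj g) _ (hR (mem_zpowers _))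
      exact h
    have hm : (g : I) * x * (g : I)⁻¹ * t = t * ((g : I) * x * (g : I)⁻¹) := mem_cent.1 hmem
    have hgV := d.tclass_T hw hV (htx.trans (isConj_iff.2 ⟨(g : I), rfl⟩)) hm
    exact (mem_normalizer_iff.1 g.2 x).2 hgV
  have hcore : N.normalCore = ⊥ := by
    by_contra hne
    set K := N.normalCore
    have hKN : K ≤ N := N.normalCore_le
    haveI : K.Normal := N.normalCore_normal
    by_cases hKV : ∃ x, x ∈ K ∧ x ∈ V ∧ x ≠ 1
    · obtain ⟨x, hxK, hxV, hx1⟩ := hKV
      have hall : ∀ y, IsConj t y → y ∈ V := fun y hy => by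
        obtain ⟨g, hg⟩ := isConj_iff.1 ((tclass x hxV hx1).symm.trans hy)
        exact hNclass y (hKN (hg ▸ Normal.conj_mem inferInstance x hxK g)) hy
      have hle : Nat.card {y : I // IsConj t y} ≤ Nat.card V :=
        Nat.card_le_card_of_injective (fun y : {y : I // IsConj t y} => (⟨y.1, hall y.1 y.2⟩ : V))
          fun a b e => Subtype.ext (congrArg Subtype.val e :)
      have hV4 : Nat.card V ≤ 4 := by
        refine le_of_le_of_eq (Nat.card_le_card_of_surjective
          (![⟨1, one_mem _⟩, ⟨t, (hV t).2 (.inr (.inl rfl))⟩, ⟨t₁, (hV t₁).2 (.inr (.inr (.inl rfl)))⟩,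
            ⟨t * t₁, (hV _).2 (.inr (.inr (.inr rfl)))⟩] : Fin 4 → V) ?_) (Nat.card_fin 4)
        rintro ⟨y, hy⟩
        rcases (hV y).1 hy with e | e | e | e
        · exact ⟨0, Subtype.ext e.symm⟩
        · exact ⟨1, Subtype.ext e.symm⟩
        · exact ⟨2, Subtype.ext e.symm⟩
        · exact ⟨3, Subtype.ext e.symm⟩
      omega
    · simp only [not_exists, not_and, not_not] at hKV
      apply hne
      rw [eq_bot_iff]
      intro k hk
      have hcom : ∀ x ∈ V, k * x = x * k := fun x hx => by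
        have hK : k * x * k⁻¹ * x⁻¹ ∈ K := by
          rw [show k * x * k⁻¹ * x⁻¹ = k * (x * k⁻¹ * x⁻¹) by group]
          exact mul_mem hk (Normal.conj_mem inferInstance _ (inv_mem hk) x)
        have hV' : k * x * k⁻¹ * x⁻¹ ∈ V := mul_mem ((mem_normalizer_iff.1 (hKN hk) x).1 hx) (inv_mem hx)
        exact mul_inv_eq_iff_eq_mul.1 (mul_inv_eq_one.1 (hKV _ hK hV'))
      have hkt := hcom t ((hV t).2 (.inr (.inl rfl)))
      have hk1 := hcom t₁ ((hV t₁).2 (.inr (.inr (.inl rfl))))
      by_contra hk0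
      refine hk0 (Subgroup.mem_bot.2 (hKV k hk ?_))
      rcases d.mem_T hkt with e | e | e | e | e | e | e | e
      · exact e ▸ one_mem V
      · exact (hV k).2 (.inr (.inl e))
      · exact (hV k).2 (.inr (.inr (.inl e)))
      · exact (hV k).2 (.inr (.inr (.inr e)))
      all_goals exfalso; rw [e] at hk1
      · exact d.vt1 hk1
      · refine d.vt1 (mul_right_cancel (b := t) ?_)
        rw [mul_assoc, ← d.comm, ← mul_assoc, hk1, mul_assoc]
      · refine d.vt1 (mul_right_cancel (b := t₁) ?_)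
        rw [hk1, mul_assoc]
      · refine d.vt1 (mul_right_cancel (b := t * t₁) ?_)
        have h9 : t₁ * (t * t₁) = t * t₁ * t₁ := by rw [← mul_assoc, ← d.comm]
        calc w * t₁ * (t * t₁) = w * (t * t₁) * t₁ := by rw [mul_assoc, h9, ← mul_assoc]
          _ = t₁ * (w * (t * t₁)) := hk1
          _ = t₁ * w * (t * t₁) := by rw [mul_assoc]
  have hinj : Function.Injective (MulAction.toPermHom I (I ⧸ N)) := by
    rw [← MonoidHom.ker_eq_bot_iff, ← Subgroup.normalCore_eq_ker, hcore]
  have hbij : Function.Bijective (MulAction.toPermHom I (I ⧸ N)) :=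
    (Nat.bijective_iff_injective_and_card _).2 ⟨hinj, by rw [Nat.card_perm, hidx, d.card_eq]; rfl⟩
  exact ⟨(MulEquiv.ofBijective _ hbij).trans (Finite.equivFinOfCardEq hidx).permCongrHom⟩

end Data

end CfsgLib.JankoFour.Seven
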